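import Mathlib

/-!
# Short presentations of symplectic groups, part 8

Few generators of pointwise stabilisers in symmetric groups.
-/

set_option autoImplicit false

namespace Cfsg.Agent.Lib.ShortPresSp

open Equiv

theorem exists_perm_map {α : Type*} [Fintype α] {k : ℕ} (f g : Fin k → α)
    (hf : Function.Injective f) (hg : Function.Injective g) :
    ∃ π : Perm α, ∀ x, π (f x) = g x := by
  classical
  let e : {x // x ∈ Set.range f} ≃ {x // x ∈ Set.range g} :=
    (Equiv.ofInjective f hf).symm.trans (Equiv.ofInjective g hg)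
  refine ⟨e.extendSubtype, fun x => ?_⟩
  rw [Equiv.extendSubtype_apply_of_mem e _ ⟨x, rfl⟩]
  simp [e, Equiv.ofInjective_symm_apply]

theorem exists_perm_gens (r : ℕ) : ∃ L : List (Perm (Fin r)), L.length ≤ min 2 (r - 1) ∧
    Subgroup.closure {x | x ∈ L} = ⊤ := by
  obtain hr | hr | hr : r ≤ 1 ∨ r = 2 ∨ 3 ≤ r := by omega
  · haveI : Subsingleton (Fin r) := Fin.subsingleton_iff_le_one.2 hr
    exact ⟨[], by simp, Subsingleton.elim _ _⟩
  · subst hr
    refine ⟨[swap 0 1], by simp, ?_⟩
    rw [eq_top_iff, ← Perm.closure_isSwap, Subgroup.closure_le]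
    rintro σ ⟨x, y, hxy, rfl⟩
    refine Subgroup.subset_closure (List.mem_singleton.2 ?_)
    fin_cases x <;> fin_cases y <;> first | exact absurd rfl hxy | rfl | exact swap_comm _ _
  · obtain ⟨t, rfl⟩ : ∃ t, r = t + 2 := ⟨r - 2, by omega⟩
    refine ⟨[finRotate (t + 2), swap 0 (finRotate (t + 2) 0)], by simp; omega, ?_⟩
    rw [show {x | x ∈ [finRotate (t + 2), swap 0 (finRotate (t + 2) 0)]} =
      ({finRotate (t + 2), swap 0 (finRotate (t + 2) 0)} : Set (Perm (Fin (t + 2)))) by ext x; simp]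
    exact Perm.closure_cycle_adjacent_swap isCycle_finRotate support_finRotate 0

theorem exists_fix_gens {m : ℕ} (S : Finset (Fin m)) :
    ∃ L : List (Perm (Fin m)), L.length ≤ min 2 (m - S.card - 1) ∧ (∀ l ∈ L, ∀ x ∈ S, l x = x) ∧
      ∀ π : Perm (Fin m), (∀ x ∈ S, π x = x) → π ∈ Subgroup.closure {x | x ∈ L} := by
  classical
  have hc : Fintype.card {x // x ∉ S} = m - S.card := by
    rw [Fintype.card_subtype_compl]; simp
  let e : Fin (m - S.card) ≃ {x // x ∉ S} := (Fintype.equivFinOfCardEq hc).symm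
  let ι : Perm (Fin (m - S.card)) →* Perm (Fin m) :=
    Perm.ofSubtype.comp e.permCongrHom.toMonoidHom
  obtain ⟨L, hL, hgen⟩ := exists_perm_gens (m - S.card)
  refine ⟨L.map ι, by rwa [List.length_map], ?_, ?_⟩
  · intro l hl x hx
    obtain ⟨σ, -, rfl⟩ := List.mem_map.1 hl
    exact Perm.ofSubtype_apply_of_not_mem (p := fun x => x ∉ S) _ (by simpa using hx)
  · intro π hπ
    have h1 : ∀ x, π x ∉ S ↔ x ∉ S := fun x => by
      refine not_congr ⟨fun h => ?_, fun h => by rw [hπ x h]; exact h⟩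
      rwa [π.injective (hπ _ h)] at h
    have h2 : π ∈ ι.range := by
      refine ⟨e.permCongrHom.symm (π.subtypePerm h1), ?_⟩
      show Perm.ofSubtype (e.permCongrHom (e.permCongrHom.symm (π.subtypePerm h1))) = π
      rw [MulEquiv.apply_symm_apply]
      exact Perm.ofSubtype_subtypePerm h1 fun x hx hxS => hx (hπ x hxS)
    rw [MonoidHom.range_eq_map, ← hgen, MonoidHom.map_closure] at h2
    convert h2 using 2
    ext x
    simp

end Cfsg.Agent.Lib.ShortPresSp
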