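import Cfsg.Agent.Lib.ShortPresSp.Rank2
import Cfsg.Agent.Lib.Forms.Quad
import Cfsg.Agent.S2286

/-!
# Short presentations of symplectic groups, part 6

`Sp₄` on six generators with thirty-four relators.
-/

set_option autoImplicit false
set_option linter.unusedSectionVars false

namespace Cfsg.Agent.Lib.ShortPresSp

open Matrix Cfsg.Agent.Lib.ShortPresSL2 Cfsg.Agent.Lib.Schur.SteinbergSLn
open Cfsg.Agent.Lib.GenSp Cfsg.Agent.Lib.Forms.SpParabolic

theorem sum_two_sq {F : Type*} [Field F] [Finite F] (c : F) : ∃ a b : F, c = a ^ 2 + b ^ 2 := by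
  by_cases h2 : (2 : F) = 0
  · obtain ⟨r, hr⟩ := Cfsg.Agent.Lib.Forms.exists_sqrt h2 c
    exact ⟨r, 0, by rw [← hr]; ring⟩
  · obtain ⟨x, y, h⟩ := Cfsg.Agent.Lib.Forms.exists_sq_add_sq h2 one_ne_zero one_ne_zero c
    exact ⟨x, y, by rw [← h]; ring⟩

/-- A short presentation of `SL₂` with a choice of words. -/
structure Sl2Pres (F : Type*) [Field F] where
  /-- The relators. -/
  rels : Finset (FreeGroup (Fin 3))
  card_le : rels.card ≤ 9
  /-- The isomorphism. -/
  e : PresentedGroup (↑rels : Set (FreeGroup (Fin 3))) ≃* SL2 F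
  /-- A word for each element. -/
  word : SL2 F → FreeGroup (Fin 3)
  eval_word : ∀ g, FreeGroup.lift (fun i => e (PresentedGroup.of i)) (word g) = g
  /-- A generator of the multiplicative group. -/
  ω : Fˣ
  hω : ∀ x : Fˣ, ∃ k : ℕ, ω ^ k = x

namespace Sl2Pres

variable {F : Type*} [Field F]

theorem nonempty [Fintype F] : Nonempty (Sl2Pres F) := by
  classical
  obtain ⟨⟨rels, hc, ⟨e⟩⟩, -, -⟩ := Cfsg.Agent.S2286.result (F := F)
  have hsurj : Function.Surjective (FreeGroup.lift (fun i => e (PresentedGroup.of i))) := by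
    intro g
    obtain ⟨w, hw⟩ := PresentedGroup.mk_surjective _ (e.symm g)
    refine ⟨w, ?_⟩
    have : FreeGroup.lift (fun i => e (PresentedGroup.of i)) =
        e.toMonoidHom.comp (PresentedGroup.mk _) := by
      ext i; simp [PresentedGroup.of]
    rw [this, MonoidHom.comp_apply, hw]
    exact e.apply_symm_apply g
  choose word hword using hsurj
  obtain ⟨ω, hω⟩ := IsCyclic.exists_generator (α := Fˣ)
  exact ⟨⟨rels, hc, e, word, hword, ω, fun x => mem_powers_iff_mem_zpowers.2 (hω x)⟩⟩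

variable (P : Sl2Pres F)

/-- The generators. -/
def s (i : Fin 3) : SL2 F := P.e (PresentedGroup.of i)

theorem closure_s : Subgroup.closure (Set.range P.s) = ⊤ := by
  refine eq_top_iff.2 fun g _ => ?_
  rw [← FreeGroup.range_lift_eq_closure, ← P.eval_word g]
  exact ⟨_, rfl⟩

/-- Homomorphisms out of `SL₂` from the relators. -/
theorem exists_hom {G : Type*} [Group G] (π : FreeGroup (Fin 3) →* G)
    (hπ : ∀ r ∈ P.rels, π r = 1) :
    ∃ φ : SL2 F →* G, (∀ g, φ g = π (P.word g)) ∧ ∀ i, φ (P.s i) = π (FreeGroup.of i) := by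
  have h : ∀ r ∈ (↑P.rels : Set (FreeGroup (Fin 3))), FreeGroup.lift (fun i => π (FreeGroup.of i)) r = 1 := by
    intro r hr
    have : FreeGroup.lift (fun i => π (FreeGroup.of i)) = π := by ext i; simp
    rw [this]; exact hπ r hr
  let Φ := PresentedGroup.toGroup h
  have hw : ∀ w, Φ (P.e.symm (FreeGroup.lift P.s w)) = π w := by
    intro w
    have : (Φ.comp P.e.symm.toMonoidHom).comp (FreeGroup.lift P.s) = π := by
      ext i; simp [Φ, s]
    exact DFunLike.congr_fun this w
  refine ⟨Φ.comp P.e.symm.toMonoidHom, fun g => ?_, fun i => ?_⟩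
  · have := hw (P.word g)
    rw [show FreeGroup.lift P.s (P.word g) = g from P.eval_word g] at this
    exact this
  · simp [Φ, s]

theorem lift_word {G : Type*} [Group G] (φ : SL2 F →* G) (g : SL2 F) :
    FreeGroup.lift (fun i => φ (P.s i)) (P.word g) = φ g := by
  have : FreeGroup.lift (fun i => φ (P.s i)) = φ.comp (FreeGroup.lift P.s) := by ext i; simp
  rw [this, MonoidHom.comp_apply, show FreeGroup.lift P.s (P.word g) = g from P.eval_word g]

theorem lift_rels {G : Type*} [Group G] (φ : SL2 F →* G) {r : FreeGroup (Fin 3)} (hr : r ∈ P.rels) :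
    FreeGroup.lift (fun i => φ (P.s i)) r = 1 := by
  have : FreeGroup.lift (fun i => φ (P.s i)) = (φ.comp P.e.toMonoidHom).comp (PresentedGroup.mk _) := by
    ext i; simp [s, PresentedGroup.of]
  rw [this, MonoidHom.comp_apply, PresentedGroup.one_of_mem hr, map_one]

end Sl2Pres

variable {F : Type*} [Field F] {n : ℕ}

theorem glue2_model (s : Fin 3 → SL2 F) (ω : Fˣ) {i j : Fin (n + 1)} (hij : i ≠ j)
    (ψ₂ : SL2 F →* SpG (n + 1) F) (hU : ∀ a, ψ₂ (matU a) = eE i j a)
    (hL : ∀ a, ψ₂ (matL a) = eE j i a) :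
    ∀ x ∈ glue2 s ω (lemb i : SL2 F → SpG (n + 1) F) ψ₂, x = 1 := by
  set R := modelRel n F with hR
  have hT : ψ₂ matT = slHom (ntv i j) := by
    rw [matT_eq, map_mul, map_mul, hU, hL, ntv, map_mul, map_mul]; rfl
  have hn : ∀ g, ψ₂ matT * lemb i g * (ψ₂ matT)⁻¹ = lemb j g := fun g => by
    rw [hT]; exact R.nφ i j hij g
  have hn2 : ∀ g, ψ₂ matT * lemb j g * (ψ₂ matT)⁻¹ = lemb i g := fun g => by
    have hc := (lemb_matD_comm (F := F) i j (-1) (by simp) g)
    rw [hT, slHom_ntv hij, mul_assoc (glHom _), hc.eq, ← mul_assoc, glHom_pm_lemb,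
      Equiv.swap_apply_right, mul_assoc (lemb i g), mul_inv_cancel_right]
  have hscale : ∀ g, lemb i (matD ω) * ψ₂ g * (lemb i (matD ω))⁻¹ = ψ₂ (dconj ω g) := by
    let f₁ := (MulAut.conj (lemb i (matD ω) : SpG (n + 1) F)).toMonoidHom.comp ψ₂
    let f₂ := ψ₂.comp (dconj ω)
    intro g
    refine sl2_induction (p := fun g => f₁ g = f₂ g) (MonoidHom.eqLocus f₁ f₂) (fun _ h => h)
      (fun x => ?_) (fun x => ?_) g
    · show lemb i (matD ω) * ψ₂ (matU x) * (lemb i (matD ω))⁻¹ = ψ₂ (dconj ω (matU x))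
      rw [dconj_matU, hU, hU]; exact R.hE₁ i j hij ω x
    · show lemb i (matD ω) * ψ₂ (matL x) * (lemb i (matD ω))⁻¹ = ψ₂ (dconj ω (matL x))
      rw [dconj_matL, hL, hL]; exact R.hE₂ j i hij.symm ω x
  have hw : ∀ g, Commute ((ψ₂ matT)⁻¹ * (lemb i matT * lemb j matT)) (ψ₂ g) := by
    intro g
    let K := (Subgroup.centralizer {(ψ₂ matT)⁻¹ * (lemb i matT * lemb j matT)}).comap ψ₂
    have hK : ∀ x, x ∈ K ↔ Commute ((ψ₂ matT)⁻¹ * (lemb i matT * lemb j matT)) (ψ₂ x) := fun x => by
      simp only [K, Subgroup.mem_comap, Subgroup.mem_centralizer_iff, Set.mem_singleton_iff, forall_eq]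
      rfl
    refine sl2_induction K (fun x hx => (hK x).1 hx) (fun x => (hK _).2 ?_) (fun x => (hK _).2 ?_) g
    · have h1 : lemb i matT * lemb j matT * ψ₂ (matU x) * (lemb i matT * lemb j matT)⁻¹ =
          ψ₂ matT * ψ₂ (matU x) * (ψ₂ matT)⁻¹ := by
        rw [← map_inv ψ₂, ← map_mul, ← map_mul, matT_matU, hU, hL]; exact R.ww i j hij x
      show _ * _ = _ * _
      rw [mul_inv_eq_iff_eq_mul] at h1
      rw [mul_assoc, h1]; group
    · have h1 : lemb i matT * lemb j matT * ψ₂ (matL x) * (lemb i matT * lemb j matT)⁻¹ =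
          ψ₂ matT * ψ₂ (matL x) * (ψ₂ matT)⁻¹ := by
        rw [← map_inv ψ₂, ← map_mul, ← map_mul, matT_matL, hU, hL, (lemb_commute hij _ _).eq]
        exact R.ww j i hij.symm x
      show _ * _ = _ * _
      rw [mul_inv_eq_iff_eq_mul] at h1
      rw [mul_assoc, h1]; group
  intro x hx
  simp only [glue2, List.mem_cons, List.not_mem_nil, or_false, hn] at hx
  rcases hx with rfl | rfl | rfl | rfl | rfl | rfl | rfl | rfl | rfl | rfl | rfl | rfl | rfl | rfl | rfl | rfl
  · exact comm2_eq_one.2 (lemb_commute hij _ _)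
  · exact comm2_eq_one.2 (lemb_commute hij _ _)
  · exact comm2_eq_one.2 (lemb_commute hij _ _)
  · exact comm2_eq_one.2 (lemb_commute hij _ _)
  · exact comm2_eq_one.2 (lemb_commute hij _ _)
  · exact comm2_eq_one.2 (lemb_commute hij _ _)
  · exact comm2_eq_one.2 (lemb_commute hij _ _)
  · exact mul_inv_eq_one.2 (hscale _)
  · exact mul_inv_eq_one.2 (hscale _)
  · exact mul_inv_eq_one.2 (hscale _)
  · exact comm2_eq_one.2 (hw _)
  · exact comm2_eq_one.2 (hw _)
  · exact comm2_eq_one.2 (hw _)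
  · refine comm2_eq_one.2 (mul_inv_eq_iff_eq_mul.1 ?_)
    rw [show ψ₂ matT * ψ₂ matT * lemb i (matU 1) * (ψ₂ matT * ψ₂ matT)⁻¹ =
      ψ₂ matT * (ψ₂ matT * lemb i (matU 1) * (ψ₂ matT)⁻¹) * (ψ₂ matT)⁻¹ by group, hn, hn2]
  · rw [hU]; exact comm2_eq_one.2 (R.EUi i j hij 1 1)
  · refine mul_inv_eq_one.2 ?_
    rw [hU, hU]
    have := R.EU i j hij 1 1
    rw [one_mul, one_mul] at this
    exact this

/-- The images of the six generators. -/
noncomputable def img2 (P : Sl2Pres F) : Fin (3 + 3) → SpG 2 F :=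
  Fin.addCases (fun i => lemb 0 (P.s i)) (fun i => slHom (P.s i))

theorem img2_left (P : Sl2Pres F) (i : Fin 3) : img2 P (Fin.castAdd 3 i) = lemb 0 (P.s i) :=
  Fin.addCases_left (m := 3) (n := 3) i

theorem img2_right (P : Sl2Pres F) (i : Fin 3) : img2 P (Fin.natAdd 3 i) = slHom (P.s i) :=
  Fin.addCases_right (m := 3) (n := 3) i

/-- The relators on six generators. -/
noncomputable def rels2 (P : Sl2Pres F) : List (FreeGroup (Fin (3 + 3))) :=
  P.rels.toList.map (FreeGroup.map (Fin.castAdd 3)) ++ P.rels.toList.map (FreeGroup.map (Fin.natAdd 3)) ++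
    glue2 P.s P.ω (fun g => FreeGroup.map (Fin.castAdd 3) (P.word g))
      (fun g => FreeGroup.map (Fin.natAdd 3) (P.word g))

theorem lift_map {α β G : Type*} [Group G] (f : β → G) (g : α → β) (w : FreeGroup α) :
    FreeGroup.lift f (FreeGroup.map g w) = FreeGroup.lift (f ∘ g) w := by
  have : (FreeGroup.lift f).comp (FreeGroup.map g) = FreeGroup.lift (f ∘ g) := by ext a; simp
  exact DFunLike.congr_fun this w

theorem exists_pres_sp4 [Fintype F] :
    ∃ rels : Finset (FreeGroup (Fin (3 + 3))), rels.card ≤ 34 ∧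
      Nonempty (PresentedGroup (↑rels : Set (FreeGroup (Fin (3 + 3)))) ≃* SpG 2 F) := by
  classical
  obtain ⟨P⟩ := Sl2Pres.nonempty (F := F)
  have hf : ∀ r ∈ (↑(rels2 P).toFinset : Set (FreeGroup (Fin (3 + 3)))),
      FreeGroup.lift (img2 P) r = 1 := by
    intro r hr
    simp only [List.coe_toFinset, Set.mem_setOf_eq, rels2, List.mem_append, List.mem_map,
      Finset.mem_toList] at hr
    rcases hr with (⟨q, hq, rfl⟩ | ⟨q, hq, rfl⟩) | hr
    · rw [lift_map, show img2 P ∘ Fin.castAdd 3 = fun i => lemb 0 (P.s i) from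
        funext (img2_left P)]
      exact P.lift_rels _ hq
    · rw [lift_map, show img2 P ∘ Fin.natAdd 3 = fun i => slHom (P.s i) from
        funext (img2_right P)]
      exact P.lift_rels _ hq
    · have h := List.mem_map_of_mem (f := FreeGroup.lift (img2 P)) hr
      rw [map_glue2] at h
      have e1 : (fun g => FreeGroup.lift (img2 P) (FreeGroup.map (Fin.castAdd 3) (P.word g))) =
          (lemb 0 : SL2 F → SpG 2 F) := funext fun g => by
        rw [lift_map, show img2 P ∘ Fin.castAdd 3 = fun i => lemb 0 (P.s i) from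
          funext (img2_left P), P.lift_word]
      have e2 : (fun g => FreeGroup.lift (img2 P) (FreeGroup.map (Fin.natAdd 3) (P.word g))) =
          (slHom : SL2 F → SpG 2 F) := funext fun g => by
        rw [lift_map, show img2 P ∘ Fin.natAdd 3 = fun i => slHom (P.s i) from
          funext (img2_right P), P.lift_word]
      rw [e1, e2] at h
      exact glue2_model (n := 1) P.s P.ω (i := 0) (j := 1) (by decide) slHom
        (fun a => by rw [← trv_two_upper, slHom_trv]) (fun a => by rw [← trv_two_lower, slHom_trv]) _ h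
  refine ⟨(rels2 P).toFinset, (List.toFinset_card_le _).trans ?_, ?_⟩
  · simp only [rels2, List.length_append, List.length_map, Finset.length_toList, length_glue2]
    have := P.card_le; omega
  set G := PresentedGroup (↑(rels2 P).toFinset : Set (FreeGroup (Fin (3 + 3))))
  set π := PresentedGroup.mk (↑(rels2 P).toFinset : Set (FreeGroup (Fin (3 + 3)))) with hπ
  have hrel : ∀ r ∈ rels2 P, π r = 1 := fun r hr =>
    PresentedGroup.one_of_mem (Finset.mem_coe.2 (List.mem_toFinset.2 hr))
  obtain ⟨φ, hφ, hφs⟩ := P.exists_hom (π.comp (FreeGroup.map (Fin.castAdd 3))) fun r hr =>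
    hrel _ (by simp only [rels2, List.mem_append, List.mem_map, Finset.mem_toList]
               exact Or.inl (Or.inl ⟨r, hr, rfl⟩))
  obtain ⟨ψ, hψ, hψs⟩ := P.exists_hom (π.comp (FreeGroup.map (Fin.natAdd 3))) fun r hr =>
    hrel _ (by simp only [rels2, List.mem_append, List.mem_map, Finset.mem_toList]
               exact Or.inl (Or.inr ⟨r, hr, rfl⟩))
  have H : R2 P.s P.ω φ ψ := by
    refine ⟨P.closure_s, P.hω, sum_two_sq, fun x hx => ?_⟩
    rw [show (φ : SL2 F → G) = fun g => π (FreeGroup.map (Fin.castAdd 3) (P.word g)) from funext hφ,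
      show (ψ : SL2 F → G) = fun g => π (FreeGroup.map (Fin.natAdd 3) (P.word g)) from funext hψ,
      ← map_glue2] at hx
    obtain ⟨r, hr, rfl⟩ := List.mem_map.1 hx
    exact hrel r (List.mem_append.2 (Or.inr hr))
  let ρ := PresentedGroup.toGroup hf
  have hρφ0 : ∀ g, ρ (φ g) = lemb 0 g := by
    have : ρ.comp φ = lemb 0 := MonoidHom.eq_of_eqOn_dense P.closure_s (Set.forall_mem_range.2 fun i => by
      simp [ρ, hφs, hπ, ← PresentedGroup.of.eq_def, img2])
    exact DFunLike.congr_fun this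
  have hρψ : ∀ g, ρ (ψ g) = slHom g := by
    have : ρ.comp ψ = slHom := MonoidHom.eq_of_eqOn_dense P.closure_s (Set.forall_mem_range.2 fun i => by
      show ρ (ψ (P.s i)) = _
      rw [hψs]
      simp only [MonoidHom.comp_apply, FreeGroup.map.of, hπ, ← PresentedGroup.of.eq_def, ρ,
        PresentedGroup.toGroup.of, img2_right])
    exact DFunLike.congr_fun this
  refine ⟨MulEquiv.ofBijective ρ (H.spRel.bijective ρ ?_ ?_ ?_)⟩
  · intro i g
    fin_cases i
    · exact hρφ0 g
    · show ρ (R2.snd φ ψ g) = lemb 1 g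
      rw [R2.snd_apply, map_mul, map_mul, map_inv, hρφ0, hρψ, ← ntv_two]
      exact (modelRel 1 F).nφ 0 1 (by decide) g
  · intro i j a _
    exact hρψ _
  · set K := Subgroup.closure
      ({x | ∃ i g, x = H.spRel.φ i g} ∪ {x | ∃ i j a, x = H.spRel.E i j a}) with hK
    refine eq_top_iff.2 ((PresentedGroup.closure_range_of _).ge.trans ((Subgroup.closure_le K).2 ?_))
    rintro _ ⟨k, rfl⟩
    induction k using Fin.addCases with
    | left i =>
      have : PresentedGroup.of (Fin.castAdd 3 i) = φ (P.s i) := by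
        rw [hφs]; simp [hπ, PresentedGroup.of]
      rw [this]
      exact Subgroup.subset_closure (Or.inl ⟨0, P.s i, rfl⟩)
    | right i =>
      have : PresentedGroup.of (Fin.natAdd 3 i) = ψ (P.s i) := by
        rw [hψs]; simp [hπ, PresentedGroup.of]
      rw [this]
      refine sl2_induction (p := fun g => ψ g ∈ K) (K.comap ψ) (fun _ h => h) (fun x => ?_) (fun x => ?_) _
      · exact Subgroup.subset_closure (Or.inr ⟨0, 1, x, by rw [← trv_one_upper]; rfl⟩)
      · exact Subgroup.subset_closure (Or.inr ⟨1, 0, x, by rw [← trv_one_lower]; rfl⟩)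

end Cfsg.Agent.Lib.ShortPresSp
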