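import Cfsg.Agent.Lib.ShortPresSp.Pres2
import Cfsg.Agent.Lib.ShortPresSp.PermGen

/-!
# Short presentations of symplectic groups, part 9

Rank at least three: the rank two relations, a symmetric group and a bounded number of further
relations between them imply all of Steinberg's relations of type `C`.
-/

set_option autoImplicit false
set_option linter.unusedSectionVars false

namespace Cfsg.Agent.Lib.ShortPresSp

open Matrix Equiv Cfsg.Agent.Lib.ShortPresSL2 Cfsg.Agent.Lib.Schur.SteinbergSLn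
open Cfsg.Agent.Lib.GenSp Cfsg.Agent.Lib.Forms.SpParabolic

variable {F : Type*} [Field F] {d : ℕ}

theorem matD_neg_one_comm (g : SL2 F) : Commute (matD (-1) : SL2 F) g := by
  refine Subtype.ext ?_
  show !![((-1 : Fˣ) : F), 0; 0, (((-1 : Fˣ)⁻¹ : Fˣ) : F)] * (g : Matrix (Fin 2) (Fin 2) F) =
    (g : Matrix (Fin 2) (Fin 2) F) * !![((-1 : Fˣ) : F), 0; 0, (((-1 : Fˣ)⁻¹ : Fˣ) : F)]
  rw [inv_neg_one]
  ext a b
  fin_cases a <;> fin_cases b <;> simp [Matrix.mul_apply, Fin.sum_univ_two]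

/-- A permutation taking `0, 1` to `i, j`. -/
def toPair (i j : Fin (d + 3)) : Perm (Fin (d + 3)) := swap (swap 0 i 1) j * swap 0 i

theorem ne01 : (0 : Fin (d + 3)) ≠ 1 := by simp [Fin.ext_iff]

theorem ne02 : (0 : Fin (d + 3)) ≠ 2 := fun h => by
  have h2 := Fin.ext_iff.1 h
  simp [Nat.mod_eq_of_lt (show 2 < d + 3 by omega)] at h2

theorem ne12 : (1 : Fin (d + 3)) ≠ 2 := fun h => by
  have h2 := Fin.ext_iff.1 h
  simp [Nat.mod_eq_of_lt (show 2 < d + 3 by omega)] at h2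

theorem toPair_zero {i j : Fin (d + 3)} (h : i ≠ j) : toPair i j 0 = i := by
  rw [toPair, Perm.mul_apply, swap_apply_left, swap_apply_of_ne_of_ne _ h]
  intro e
  have := congrArg (swap 0 i) e
  rw [swap_apply_self, swap_apply_right] at this
  exact absurd this ne01

theorem toPair_one (i j : Fin (d + 3)) : toPair i j 1 = j := by
  rw [toPair, Perm.mul_apply, swap_apply_left]

theorem exists_perm_three {a b c : Fin (d + 3)} (hab : a ≠ b) (hac : a ≠ c) (hbc : b ≠ c) :
    ∃ π : Perm (Fin (d + 3)), π 0 = a ∧ π 1 = b ∧ π 2 = c := by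
  obtain ⟨π, hπ⟩ := exists_perm_map (![0, 1, 2] : Fin 3 → Fin (d + 3)) ![a, b, c]
    (fun x y h => by
      fin_cases x <;> fin_cases y <;> simp [ne01, ne02, ne12, ne01.symm, ne02.symm, ne12.symm] at h ⊢)
    (fun x y h => by
      fin_cases x <;> fin_cases y <;> first
        | rfl
        | (exfalso; simp [hab, hab.symm, hac, hac.symm, hbc, hbc.symm] at h))
  exact ⟨π, hπ 0, hπ 1, hπ 2⟩

/-- `0 ↦ 0`, `1 ↦ 2`. -/
def p02 : Perm (Fin (d + 3)) := swap 1 2

/-- `0 ↦ 1`, `1 ↦ 2`. -/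
def p12 : Perm (Fin (d + 3)) := swap 0 1 * swap 1 2

theorem p02_zero : (p02 : Perm (Fin (d + 3))) 0 = 0 :=
  swap_apply_of_ne_of_ne ne01 ne02

theorem p02_one : (p02 : Perm (Fin (d + 3))) 1 = 2 := swap_apply_left _ _

theorem p12_zero : (p12 : Perm (Fin (d + 3))) 0 = 1 := by
  rw [p12, Perm.mul_apply, swap_apply_of_ne_of_ne ne01 ne02, swap_apply_left]

theorem p12_one : (p12 : Perm (Fin (d + 3))) 1 = 2 := by
  rw [p12, Perm.mul_apply, swap_apply_left, swap_apply_of_ne_of_ne ne02.symm ne12.symm]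

/-- The further relators. -/
def glueN {X : Type*} [Group X] (s : Fin 3 → SL2 F) (LA LB LD : List (Perm (Fin (d + 3))))
    (A B : SL2 F → X) (S : Perm (Fin (d + 3)) → X) : List X :=
  let e := B (matU 1)
  let e02 := S p02 * e * (S p02)⁻¹
  let e12 := S p12 * e * (S p12)⁻¹
  [S (swap 0 1) * (B matT * A (matD (-1)))⁻¹] ++
    (LA.map fun l => comm2 (S l) (A (s 0))) ++ (LA.map fun l => comm2 (S l) (A (s 1))) ++
    (LA.map fun l => comm2 (S l) (A (s 2))) ++ (LB.map fun l => comm2 (S l) e) ++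
    [comm2 (A (s 0)) e12, comm2 (A (s 1)) e12, comm2 (A (s 2)) e12] ++
    (LD.map fun π => comm2 e (S π * e * (S π)⁻¹)) ++
    [e * e12 * (e02 * e12 * e)⁻¹]

theorem length_glueN {X : Type*} [Group X] (s : Fin 3 → SL2 F)
    (LA LB LD : List (Perm (Fin (d + 3)))) (A B : SL2 F → X) (S : Perm (Fin (d + 3)) → X) :
    (glueN s LA LB LD A B S).length = 5 + 3 * LA.length + LB.length + LD.length := by
  simp [glueN]; omega

theorem map_glueN {X Y : Type*} [Group X] [Group Y] (f : X →* Y) (s : Fin 3 → SL2 F)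
    (LA LB LD : List (Perm (Fin (d + 3)))) (A B : SL2 F → X) (S : Perm (Fin (d + 3)) → X) :
    (glueN s LA LB LD A B S).map f =
      glueN s LA LB LD (fun g => f (A g)) (fun g => f (B g)) (fun π => f (S π)) := by
  simp [glueN, map_comm2, List.map_map, Function.comp_def]

/-- The hypotheses in rank at least three. -/
structure RN {G : Type*} [Group G] (s : Fin 3 → SL2 F) (ω : Fˣ)
    (LA LB LD : List (Perm (Fin (d + 3)))) (φ ψ : SL2 F →* G) (S : Perm (Fin (d + 3)) →* G) :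
    Prop where
  two : R2 s ω φ ψ
  hA : ∀ π : Perm (Fin (d + 3)), π 0 = 0 → π ∈ Subgroup.closure {x | x ∈ LA}
  hB : ∀ π : Perm (Fin (d + 3)), π 0 = 0 → π 1 = 1 → π ∈ Subgroup.closure {x | x ∈ LB}
  hBfix : ∀ π ∈ LB, π 0 = 0 ∧ π 1 = 1
  hD1 : ∃ π ∈ LD, π 0 = 0 ∧ π 1 = 2
  hD2 : ∀ k l : Fin (d + 3), k ≠ l → k ≠ 0 → k ≠ 1 → l ≠ 0 → l ≠ 1 →
    ∃ π ∈ LD, π 0 ≠ 0 ∧ π 0 ≠ 1 ∧ π 1 ≠ 0 ∧ π 1 ≠ 1
  rel : ∀ x ∈ glueN s LA LB LD φ ψ S, x = 1

namespace RN

variable {G : Type*} [Group G] {s : Fin 3 → SL2 F} {ω : Fˣ}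
  {LA LB LD : List (Perm (Fin (d + 3)))} {φ ψ : SL2 F →* G} {S : Perm (Fin (d + 3)) →* G}

/-- Conjugation by permutations. -/
def cj (S : Perm (Fin (d + 3)) →* G) (π : Perm (Fin (d + 3))) : G →* G :=
  (MulAut.conj (S π)).toMonoidHom

theorem cj_apply (π : Perm (Fin (d + 3))) (x : G) : cj S π x = S π * x * (S π)⁻¹ := rfl

theorem cj_cj (π σ : Perm (Fin (d + 3))) (x : G) : cj S π (cj S σ x) = cj S (π * σ) x := by
  rw [cj_apply, cj_apply, cj_apply, map_mul]; group

/-- The long root `SL₂`s. -/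
def phiN (φ : SL2 F →* G) (S : Perm (Fin (d + 3)) →* G) (i : Fin (d + 3)) : SL2 F →* G :=
  (cj S (swap 0 i)).comp φ

/-- The short root elements. -/
def XN (ψ : SL2 F →* G) (S : Perm (Fin (d + 3)) →* G) (i j : Fin (d + 3)) (a : F) : G :=
  cj S (toPair i j) (ψ (matU a))

theorem conj_commute {x y z : G} (h : Commute x y) : Commute (z * x * z⁻¹) (z * y * z⁻¹) :=
  h.map (MulAut.conj z)

variable (H : RN s ω LA LB LD φ ψ S)

include H

theorem swap_eq : S (swap 0 1) = ψ matT * φ (matD (-1)) :=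
  mul_inv_eq_one.1 (H.rel _ (by simp [glueN]))

theorem fix_phi {π : Perm (Fin (d + 3))} (h : π 0 = 0) (g : SL2 F) : cj S π (φ g) = φ g := by
  have hgen : ∀ l ∈ LA, ∀ i, Commute (S l) (φ (s i)) := fun l hl i => by
    fin_cases i <;> exact comm2_eq_one.1 (H.rel _ (by
      simp only [glueN, List.mem_append, List.mem_map]
      first
        | exact Or.inl (Or.inl (Or.inl (Or.inl (Or.inl (Or.inl (Or.inr ⟨l, hl, rfl⟩))))))
        | exact Or.inl (Or.inl (Or.inl (Or.inl (Or.inl (Or.inr ⟨l, hl, rfl⟩)))))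
        | exact Or.inl (Or.inl (Or.inl (Or.inl (Or.inr ⟨l, hl, rfl⟩))))))
  have h1 : ∀ i, cj S π (φ (s i)) = φ (s i) := fun i => by
    refine Subgroup.closure_induction (p := fun x _ => cj S x (φ (s i)) = φ (s i))
      (fun x hx => ?_) ?_ (fun x y _ _ hx hy => ?_) (fun x _ hx => ?_) (H.hA π h)
    · rw [cj_apply, (hgen x hx i).eq, mul_inv_cancel_right]
    · simp [cj_apply]
    · rw [← cj_cj, hy, hx]
    · calc cj S x⁻¹ (φ (s i)) = cj S x⁻¹ (cj S x (φ (s i))) := by rw [hx]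
        _ = _ := by rw [cj_cj, inv_mul_cancel]; simp [cj_apply]
  exact DFunLike.congr_fun (H.two.ext_hom (f := (cj S π).comp φ) (f' := φ) h1) g

theorem cj_phi (π : Perm (Fin (d + 3))) (g : SL2 F) : cj S π (φ g) = phiN φ S (π 0) g := by
  have e : π = swap 0 (π 0) * (swap 0 (π 0) * π) := by rw [← mul_assoc, Equiv.swap_mul_self, one_mul]
  conv_lhs => rw [e, ← cj_cj, H.fix_phi (by simp)]
  rfl

theorem cj_phiN (π : Perm (Fin (d + 3))) (i : Fin (d + 3)) (g : SL2 F) :
    cj S π (phiN φ S i g) = phiN φ S (π i) g := by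
  rw [show phiN φ S i g = cj S (swap 0 i) (φ g) from rfl, cj_cj, H.cj_phi]
  simp

theorem phiN_zero (g : SL2 F) : phiN φ S 0 g = φ g := by
  have := H.cj_phi 1 g; simpa [cj_apply] using this.symm

theorem phiN_one (g : SL2 F) : phiN φ S 1 g = R2.snd φ ψ g := by
  show cj S (swap 0 1) (φ g) = _
  rw [cj_apply, H.swap_eq, R2.snd_apply,
    show ψ matT * φ (matD (-1)) * φ g * (ψ matT * φ (matD (-1)))⁻¹ =
      ψ matT * (φ (matD (-1)) * φ g * (φ (matD (-1)))⁻¹) * (ψ matT)⁻¹ by group,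
    ← map_inv φ, ← map_mul φ, ← map_mul φ, (matD_neg_one_comm g).eq, mul_inv_cancel_right]

theorem fix_psi {π : Perm (Fin (d + 3))} (h0 : π 0 = 0) (h1 : π 1 = 1) (a : F) :
    cj S π (ψ (matU a)) = ψ (matU a) := by
  rcases eq_or_ne a 0 with rfl | ha
  · simp [matU_zero]
  have e : ψ (matU a) = φ (matD (Units.mk0 a ha)) * ψ (matU 1) * (φ (matD (Units.mk0 a ha)))⁻¹ := by
    rw [H.two.hE_A]; simp
  have hU : cj S π (ψ (matU 1)) = ψ (matU 1) := by
    refine Subgroup.closure_induction (p := fun x _ => cj S x (ψ (matU 1)) = ψ (matU 1))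
      (fun x hx => ?_) ?_ (fun x y _ _ hx hy => ?_) (fun x _ hx => ?_) (H.hB π h0 h1)
    · have : Commute (S x) (ψ (matU 1)) := comm2_eq_one.1 (H.rel _ (by
        simp only [glueN, List.mem_append, List.mem_map]
        exact Or.inl (Or.inl (Or.inl (Or.inr ⟨x, hx, rfl⟩)))))
      rw [cj_apply, this.eq, mul_inv_cancel_right]
    · simp [cj_apply]
    · rw [← cj_cj, hy, hx]
    · calc cj S x⁻¹ (ψ (matU 1)) = cj S x⁻¹ (cj S x (ψ (matU 1))) := by rw [hx]
        _ = _ := by rw [cj_cj, inv_mul_cancel]; simp [cj_apply]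
  rw [e, map_mul, map_mul, map_inv, H.fix_phi h0, hU]

theorem cj_psi (π : Perm (Fin (d + 3))) (a : F) : cj S π (ψ (matU a)) = XN ψ S (π 0) (π 1) a := by
  have h : π 0 ≠ π 1 := π.injective.ne (by first | exact ne01 | exact ne02 | exact ne12 | exact ne01.symm | exact ne02.symm | exact ne12.symm)
  set τ := toPair (π 0) (π 1) with hτ
  have e : π = τ * (τ⁻¹ * π) := by rw [← mul_assoc, mul_inv_cancel, one_mul]
  conv_lhs => rw [e, ← cj_cj, H.fix_psi
    (by rw [Perm.mul_apply, Perm.inv_def, Equiv.symm_apply_eq]; exact (toPair_zero h).symm)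
    (by rw [Perm.mul_apply, Perm.inv_def, Equiv.symm_apply_eq]; exact (toPair_one _ _).symm)]
  rfl

theorem cj_XN (π : Perm (Fin (d + 3))) {i j : Fin (d + 3)} (h : i ≠ j) (a : F) :
    cj S π (XN ψ S i j a) = XN ψ S (π i) (π j) a := by
  rw [XN, cj_cj, H.cj_psi, Perm.mul_apply, Perm.mul_apply, toPair_zero h, toPair_one]

theorem XN_zero_one (a : F) : XN ψ S 0 1 a = ψ (matU a) := by
  have := H.cj_psi 1 a
  simpa [cj_apply] using this.symm

theorem XN_one_zero (a : F) : XN ψ S 1 0 a = ψ (matL a) := by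
  have h : cj S (swap 0 1) (XN ψ S 0 1 a) = XN ψ S 1 0 a := by
    rw [H.cj_XN _ (by first | exact ne01 | exact ne02 | exact ne12 | exact ne01.symm | exact ne02.symm | exact ne12.symm), swap_apply_left, swap_apply_right]
  rw [← h, H.XN_zero_one, cj_apply, H.swap_eq,
    show ψ matT * φ (matD (-1)) * ψ (matU a) * (ψ matT * φ (matD (-1)))⁻¹ =
      ψ matT * (φ (matD (-1)) * ψ (matU a) * (φ (matD (-1)))⁻¹) * (ψ matT)⁻¹ by group,
    H.two.hE_A, H.two.n_conj_U]
  simp

theorem exists_pair {i j : Fin (d + 3)} (h : i ≠ j) : ∃ π : Perm (Fin (d + 3)), π 0 = i ∧ π 1 = j :=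
  ⟨toPair i j, toPair_zero h, toPair_one i j⟩

theorem phiN_comm {i j : Fin (d + 3)} (h : i ≠ j) (g g' : SL2 F) :
    Commute (phiN φ S i g) (phiN φ S j g') := by
  obtain ⟨π, rfl, rfl⟩ := H.exists_pair h
  have h1 : Commute (phiN φ S 0 g) (phiN φ S 1 g') := by
    rw [H.phiN_zero, H.phiN_one]; exact H.two.comm_all g g'
  have h2 := h1.map (cj S π)
  rwa [H.cj_phiN, H.cj_phiN] at h2

theorem rE₁ {i j : Fin (d + 3)} (h : i ≠ j) (l : Fˣ) (a : F) :
    phiN φ S i (matD l) * XN ψ S i j a * (phiN φ S i (matD l))⁻¹ = XN ψ S i j ((l : F) * a) := by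
  obtain ⟨π, rfl, rfl⟩ := H.exists_pair h
  have h1 := congrArg (cj S π) (H.two.hE_A l a)
  simp only [map_mul, map_inv, ← H.phiN_zero, ← H.XN_zero_one] at h1
  rwa [H.cj_phiN, H.cj_XN _ (by first | exact ne01 | exact ne02 | exact ne12 | exact ne01.symm | exact ne02.symm | exact ne12.symm), H.cj_XN _ (by first | exact ne01 | exact ne02 | exact ne12 | exact ne01.symm | exact ne02.symm | exact ne12.symm)] at h1

theorem rE₂ {i j : Fin (d + 3)} (h : i ≠ j) (l : Fˣ) (a : F) :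
    phiN φ S j (matD l) * XN ψ S i j a * (phiN φ S j (matD l))⁻¹ =
      XN ψ S i j (((l⁻¹ : Fˣ) : F) * a) := by
  obtain ⟨π, rfl, rfl⟩ := H.exists_pair h
  have h1 := congrArg (cj S π) (H.two.hE_B' l a)
  simp only [map_mul, map_inv, ← H.phiN_one, ← H.XN_zero_one] at h1
  rwa [H.cj_phiN, H.cj_XN _ (by first | exact ne01 | exact ne02 | exact ne12 | exact ne01.symm | exact ne02.symm | exact ne12.symm), H.cj_XN _ (by first | exact ne01 | exact ne02 | exact ne12 | exact ne01.symm | exact ne02.symm | exact ne12.symm)] at h1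

theorem rww {i j : Fin (d + 3)} (h : i ≠ j) (a : F) :
    phiN φ S i matT * phiN φ S j matT * XN ψ S i j a * (phiN φ S i matT * phiN φ S j matT)⁻¹ =
      XN ψ S j i (-a) := by
  obtain ⟨π, rfl, rfl⟩ := H.exists_pair h
  have h1 := congrArg (cj S π) (H.two.w_conj (matU a))
  rw [matT_matU] at h1
  simp only [map_mul, map_inv, ← H.phiN_one, ← H.phiN_zero, ← H.XN_zero_one, ← H.XN_one_zero] at h1
  simpa only [H.cj_phiN, H.cj_XN _ (show (0 : Fin (d + 3)) ≠ 1 from ne01),
    H.cj_XN _ (show (1 : Fin (d + 3)) ≠ 0 from ne01.symm)] using h1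

theorem rEU {i j : Fin (d + 3)} (h : i ≠ j) (a t : F) :
    XN ψ S i j a * phiN φ S j (matU t) * (XN ψ S i j a)⁻¹ =
      phiN φ S j (matU t) * (phiN φ S j matT * XN ψ S i j (-(a * t)) * (phiN φ S j matT)⁻¹) *
        phiN φ S i (matU (a * a * t)) := by
  obtain ⟨π, rfl, rfl⟩ := H.exists_pair h
  have h1 := congrArg (cj S π) (H.two.EU_base a t)
  simp only [map_mul, map_inv, ← H.phiN_one, ← H.phiN_zero, ← H.XN_zero_one] at h1
  simpa only [H.cj_phiN, H.cj_XN _ (show (0 : Fin (d + 3)) ≠ 1 from ne01)] using h1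

theorem rEUi {i j : Fin (d + 3)} (h : i ≠ j) (a t : F) :
    Commute (XN ψ S i j a) (phiN φ S i (matU t)) := by
  obtain ⟨π, rfl, rfl⟩ := H.exists_pair h
  have h1 : Commute (XN ψ S 0 1 a) (phiN φ S 0 (matU t)) := by
    rw [H.XN_zero_one, H.phiN_zero]; exact H.two.U_comm_U a t
  have h2 := h1.map (cj S π)
  rwa [H.cj_phiN, H.cj_XN _ (by first | exact ne01 | exact ne02 | exact ne12 | exact ne01.symm | exact ne02.symm | exact ne12.symm)] at h2

theorem XN_p12 (a : F) : cj S p12 (ψ (matU a)) = XN ψ S 1 2 a := by rw [H.cj_psi, p12_zero, p12_one]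

theorem rφE {i j k : Fin (d + 3)} (h : i ≠ j) (hki : k ≠ i) (hkj : k ≠ j) (g : SL2 F) (a : F) :
    Commute (phiN φ S k g) (XN ψ S i j a) := by
  obtain ⟨π, rfl, rfl, rfl⟩ := exists_perm_three hki hkj h
  suffices h0 : Commute (phiN φ S 0 g) (XN ψ S 1 2 a) by
    have h2 := h0.map (cj S π)
    rwa [H.cj_phiN, H.cj_XN _ (by first | exact ne01 | exact ne02 | exact ne12 | exact ne01.symm | exact ne02.symm | exact ne12.symm)] at h2
  have hgen : ∀ x, Commute (φ (s x)) (XN ψ S 1 2 1) := fun x => by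
    rw [← H.XN_p12]
    fin_cases x <;> exact comm2_eq_one.1 (H.rel _ (by simp [glueN, cj_apply]))
  have h1 : ∀ g, Commute (φ g) (XN ψ S 1 2 1) := fun g => by
    have e := H.two.ext_hom (f := (MulAut.conj (XN ψ S 1 2 1)).toMonoidHom.comp φ) (f' := φ) fun x => by
      simp only [MonoidHom.comp_apply, MulEquiv.coe_toMonoidHom, MulAut.conj_apply]
      rw [← (hgen x).eq, mul_inv_cancel_right]
    have := DFunLike.congr_fun e g
    simp only [MonoidHom.comp_apply, MulEquiv.coe_toMonoidHom, MulAut.conj_apply] at this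
    exact (mul_inv_eq_iff_eq_mul.1 this).symm
  rcases eq_or_ne a 0 with rfl | ha
  · simp [XN, matU_zero]
  have e : XN ψ S 1 2 a = phiN φ S 1 (matD (Units.mk0 a ha)) * XN ψ S 1 2 1 *
      (phiN φ S 1 (matD (Units.mk0 a ha)))⁻¹ := by
    rw [H.rE₁ (by first | exact ne01 | exact ne02 | exact ne12 | exact ne01.symm | exact ne02.symm | exact ne12.symm)]; simp
  have hc : Commute (phiN φ S 0 g) (phiN φ S 1 (matD (Units.mk0 a ha))) :=
    H.phiN_comm (by first | exact ne01 | exact ne02 | exact ne12 | exact ne01.symm | exact ne02.symm | exact ne12.symm) _ _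
  rw [e, H.phiN_zero]
  rw [H.phiN_zero] at hc
  exact (hc.mul_right (h1 g)).mul_right hc.inv_right

theorem XN_add {i j : Fin (d + 3)} (t u : F) : XN ψ S i j (t + u) = XN ψ S i j t * XN ψ S i j u := by
  rw [XN, XN, XN, matU_add, map_mul, map_mul]

theorem XN_zero' (i j : Fin (d + 3)) : XN ψ S i j (0 : F) = 1 := by
  rw [XN, matU_zero, map_one, map_one]

theorem comm_first {i j l : Fin (d + 3)} (hij : i ≠ j) (hil : i ≠ l) (hjl : j ≠ l) (t u : F) :
    Commute (XN ψ S i j t) (XN ψ S i l u) := by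
  obtain ⟨π, rfl, rfl, rfl⟩ := exists_perm_three hij hil hjl
  suffices h0 : ∀ t u, Commute (XN ψ S 0 1 t) (XN ψ S 0 2 u) by
    have h2 := (h0 t u).map (cj S π)
    rwa [H.cj_XN _ (by first | exact ne01 | exact ne02 | exact ne12 | exact ne01.symm | exact ne02.symm | exact ne12.symm), H.cj_XN _ (by first | exact ne01 | exact ne02 | exact ne12 | exact ne01.symm | exact ne02.symm | exact ne12.symm)] at h2
  intro t u
  have h11 : Commute (XN ψ S 0 1 1) (XN ψ S 0 2 1) := by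
    obtain ⟨σ, hσ, h0, h1⟩ := H.hD1
    have h : Commute (ψ (matU 1)) (cj S σ (ψ (matU 1))) := comm2_eq_one.1 (H.rel _ (by
      simp only [glueN, List.mem_append, List.mem_map]
      exact Or.inl (Or.inr ⟨σ, hσ, rfl⟩)))
    rwa [H.cj_psi, h0, h1, ← H.XN_zero_one] at h
  rcases eq_or_ne t 0 with rfl | ht
  · rw [H.XN_zero']; exact Commute.one_left _
  rcases eq_or_ne u 0 with rfl | hu
  · rw [H.XN_zero']; exact Commute.one_right _
  set l₁ := (Units.mk0 t ht)⁻¹
  set l₂ := (Units.mk0 u hu)⁻¹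
  have a1 := conj_commute (z := phiN φ S 1 (matD l₁)) h11
  rw [H.rE₂ (by first | exact ne01 | exact ne02 | exact ne12 | exact ne01.symm | exact ne02.symm | exact ne12.symm), (H.rφE (k := 1) (i := 0) (j := 2) (by first | exact ne01 | exact ne02 | exact ne12 | exact ne01.symm | exact ne02.symm | exact ne12.symm)
    (by first | exact ne01 | exact ne02 | exact ne12 | exact ne01.symm | exact ne02.symm | exact ne12.symm) (by first | exact ne01 | exact ne02 | exact ne12 | exact ne01.symm | exact ne02.symm | exact ne12.symm) _ _).eq, mul_inv_cancel_right] at a1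
  have a2 := conj_commute (z := phiN φ S 2 (matD l₂)) a1
  rw [H.rE₂ (by first | exact ne01 | exact ne02 | exact ne12 | exact ne01.symm | exact ne02.symm | exact ne12.symm), (H.rφE (k := 2) (i := 0) (j := 1) (by first | exact ne01 | exact ne02 | exact ne12 | exact ne01.symm | exact ne02.symm | exact ne12.symm)
    (by first | exact ne01 | exact ne02 | exact ne12 | exact ne01.symm | exact ne02.symm | exact ne12.symm) (by first | exact ne01 | exact ne02 | exact ne12 | exact ne01.symm | exact ne02.symm | exact ne12.symm) _ _).eq, mul_inv_cancel_right] at a2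
  simpa [l₁, l₂] using a2

theorem comm_second {i j l : Fin (d + 3)} (hij : i ≠ j) (hlj : l ≠ j) (hil : i ≠ l) (t u : F) :
    Commute (XN ψ S i j t) (XN ψ S l j u) := by
  have h := H.comm_first hij.symm hlj.symm hil (-t) (-u)
  have h' := conj_commute (z := phiN φ S j matT * phiN φ S i matT * phiN φ S l matT) h
  have ci : phiN φ S l matT * XN ψ S j i (-t) * (phiN φ S l matT)⁻¹ = XN ψ S j i (-t) := by
    rw [(H.rφE hij.symm hlj hil.symm matT (-t)).eq, mul_inv_cancel_right]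
  have cl : phiN φ S i matT * XN ψ S j l (-u) * (phiN φ S i matT)⁻¹ = XN ψ S j l (-u) := by
    rw [(H.rφE hlj.symm hij hil matT (-u)).eq, mul_inv_cancel_right]
  have hwl := H.phiN_comm hil matT matT
  have e1 : phiN φ S j matT * phiN φ S i matT * phiN φ S l matT * XN ψ S j i (-t) *
      (phiN φ S j matT * phiN φ S i matT * phiN φ S l matT)⁻¹ = XN ψ S i j t := by
    have := H.rww hij.symm (-t)
    rw [neg_neg] at this
    rw [show phiN φ S j matT * phiN φ S i matT * phiN φ S l matT * XN ψ S j i (-t) *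
      (phiN φ S j matT * phiN φ S i matT * phiN φ S l matT)⁻¹ = phiN φ S j matT * phiN φ S i matT *
        (phiN φ S l matT * XN ψ S j i (-t) * (phiN φ S l matT)⁻¹) *
        (phiN φ S j matT * phiN φ S i matT)⁻¹ by group, ci, this]
  have e2 : phiN φ S j matT * phiN φ S i matT * phiN φ S l matT * XN ψ S j l (-u) *
      (phiN φ S j matT * phiN φ S i matT * phiN φ S l matT)⁻¹ = XN ψ S l j u := by
    have := H.rww hlj.symm (-u)
    rw [neg_neg] at this
    rw [mul_assoc (phiN φ S j matT) (phiN φ S i matT), hwl.eq, ← mul_assoc,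
      show phiN φ S j matT * phiN φ S l matT * phiN φ S i matT * XN ψ S j l (-u) *
      (phiN φ S j matT * phiN φ S l matT * phiN φ S i matT)⁻¹ = phiN φ S j matT * phiN φ S l matT *
        (phiN φ S i matT * XN ψ S j l (-u) * (phiN φ S i matT)⁻¹) *
        (phiN φ S j matT * phiN φ S l matT)⁻¹ by group, cl, this]
  rwa [e1, e2] at h'

theorem comm_disjoint {i j k l : Fin (d + 3)} (hij : i ≠ j) (hkl : k ≠ l) (hik : i ≠ k) (hil : i ≠ l)
    (hjk : j ≠ k) (hjl : j ≠ l) (t u : F) : Commute (XN ψ S i j t) (XN ψ S k l u) := by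
  obtain ⟨π₀, h0, h1⟩ := H.exists_pair hij
  have hsymm : ∀ x, π₀.symm x = 0 → x = i := fun x hx => by
    rw [← h0, ← hx, Equiv.apply_symm_apply]
  have hsymm' : ∀ x, π₀.symm x = 1 → x = j := fun x hx => by
    rw [← h1, ← hx, Equiv.apply_symm_apply]
  obtain ⟨σ, hσ, q1, q2, q3, q4⟩ := H.hD2 (π₀.symm k) (π₀.symm l) (π₀.symm.injective.ne hkl)
    (fun e => hik (hsymm k e).symm) (fun e => hjk (hsymm' k e).symm)
    (fun e => hil (hsymm l e).symm) (fun e => hjl (hsymm' l e).symm)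
  have hσ01 : σ 0 ≠ σ 1 := σ.injective.ne (by first | exact ne01 | exact ne02 | exact ne12 | exact ne01.symm | exact ne02.symm | exact ne12.symm)
  obtain ⟨π, hπ⟩ := exists_perm_map ![0, 1, σ 0, σ 1] ![i, j, k, l]
    (fun x y h => by
      fin_cases x <;> fin_cases y <;> first
        | rfl
        | (exfalso; simp [q1, q2, q3, q4, hσ01, Ne.symm q1, Ne.symm q2, Ne.symm q3, Ne.symm q4,
            Ne.symm hσ01, Fin.ext_iff] at h <;> omega))
    (fun x y h => by
      fin_cases x <;> fin_cases y <;> first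
        | rfl
        | (exfalso; simp [hij, hkl, hik, hil, hjk, hjl, hij.symm, hkl.symm, hik.symm, hil.symm,
            hjk.symm, hjl.symm] at h))
  have e0 : π 0 = i := hπ 0
  have e1 : π 1 = j := hπ 1
  have e2 : π (σ 0) = k := hπ 2
  have e3 : π (σ 1) = l := hπ 3
  have h11 : Commute (XN ψ S i j 1) (XN ψ S k l 1) := by
    have h : Commute (ψ (matU 1)) (cj S σ (ψ (matU 1))) := comm2_eq_one.1 (H.rel _ (by
      simp only [glueN, List.mem_append, List.mem_map]
      exact Or.inl (Or.inr ⟨σ, hσ, rfl⟩)))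
    have h' := h.map (cj S π)
    rw [cj_cj, H.cj_psi, H.cj_psi, Perm.mul_apply, Perm.mul_apply, e0, e1, e2, e3] at h'
    exact h'
  rcases eq_or_ne t 0 with rfl | ht
  · rw [H.XN_zero']; exact Commute.one_left _
  rcases eq_or_ne u 0 with rfl | hu
  · rw [H.XN_zero']; exact Commute.one_right _
  have a1 := conj_commute (z := phiN φ S i (matD (Units.mk0 t ht))) h11
  rw [H.rE₁ hij, (H.rφE hkl hik hil _ _).eq, mul_inv_cancel_right] at a1
  have a2 := conj_commute (z := phiN φ S k (matD (Units.mk0 u hu))) a1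
  rw [H.rE₁ hkl, (H.rφE hij hik.symm hjk.symm _ _).eq, mul_inv_cancel_right] at a2
  simpa using a2

theorem slnRel : IsSLnRel (XN ψ S) := by
  refine ⟨fun i j _ t u => H.XN_add t u, fun i j k l hij hkl hil hjk t u => ?_,
    fun i j l hij hjl hil t u => ?_⟩
  · show Commute (XN ψ S i j t) (XN ψ S k l u)
    rcases eq_or_ne i k with rfl | hik
    · rcases eq_or_ne j l with rfl | hjl
      · show _ * _ = _ * _
        rw [← H.XN_add, ← H.XN_add, add_comm]
      · exact H.comm_first hij hil hjl t u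
    · rcases eq_or_ne j l with rfl | hjl
      · exact H.comm_second hij hkl hik t u
      · exact H.comm_disjoint hij hkl hik hil hjk hjl t u
  · obtain ⟨π, rfl, rfl, rfl⟩ := exists_perm_three hij hil hjl
    suffices h0 : ∀ t u, XN ψ S 0 1 t * XN ψ S 1 2 u =
        XN ψ S 0 2 (t * u) * XN ψ S 1 2 u * XN ψ S 0 1 t by
      have h1 := congrArg (cj S π) (h0 t u)
      simpa only [map_mul, H.cj_XN _ (show (0 : Fin (d + 3)) ≠ 1 from ne01),
        H.cj_XN _ (show (1 : Fin (d + 3)) ≠ 2 from ne12),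
        H.cj_XN _ (show (0 : Fin (d + 3)) ≠ 2 from ne02)] using h1
    have h11 : XN ψ S 0 1 1 * XN ψ S 1 2 1 = XN ψ S 0 2 1 * XN ψ S 1 2 1 * XN ψ S 0 1 1 := by
      rw [H.XN_zero_one, ← H.XN_p12,
        show XN ψ S 0 2 1 = cj S p02 (ψ (matU 1)) by rw [H.cj_psi, p02_zero, p02_one]]
      exact mul_inv_eq_one.1 (H.rel _ (by simp [glueN, cj_apply]))
    intro t u
    rcases eq_or_ne t 0 with rfl | ht
    · simp [H.XN_zero']
    rcases eq_or_ne u 0 with rfl | hu
    · simp [H.XN_zero']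
    have n01 : (0 : Fin (d + 3)) ≠ 1 := ne01
    have n02 : (0 : Fin (d + 3)) ≠ 2 := ne02
    have n12 : (1 : Fin (d + 3)) ≠ 2 := ne12
    set z₁ := phiN φ S 0 (matD (Units.mk0 t ht)) with hz₁
    set z₂ := phiN φ S 2 (matD (Units.mk0 u hu)⁻¹) with hz₂
    have h1 := congrArg (MulAut.conj (z₂ * z₁)) h11
    have f1 : MulAut.conj (z₂ * z₁) (XN ψ S 0 1 1) = XN ψ S 0 1 t := by
      rw [MulAut.conj_apply, show z₂ * z₁ * XN ψ S 0 1 1 * (z₂ * z₁)⁻¹ =
        z₂ * (z₁ * XN ψ S 0 1 1 * z₁⁻¹) * z₂⁻¹ by group, hz₁, H.rE₁ n01, hz₂,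
        (H.rφE n01 n02.symm n12.symm _ _).eq, mul_inv_cancel_right]
      simp
    have f2 : MulAut.conj (z₂ * z₁) (XN ψ S 1 2 1) = XN ψ S 1 2 u := by
      rw [MulAut.conj_apply, show z₂ * z₁ * XN ψ S 1 2 1 * (z₂ * z₁)⁻¹ =
        z₂ * (z₁ * XN ψ S 1 2 1 * z₁⁻¹) * z₂⁻¹ by group, hz₁,
        (H.rφE n12 n01 n02 _ _).eq, mul_inv_cancel_right, hz₂, H.rE₂ n12]
      simp
    have f3 : MulAut.conj (z₂ * z₁) (XN ψ S 0 2 1) = XN ψ S 0 2 (t * u) := by
      rw [MulAut.conj_apply, show z₂ * z₁ * XN ψ S 0 2 1 * (z₂ * z₁)⁻¹ =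
        z₂ * (z₁ * XN ψ S 0 2 1 * z₁⁻¹) * z₂⁻¹ by group, hz₁, H.rE₁ n02, hz₂, H.rE₂ n02]
      simp [mul_comm]
    simp only [map_mul (MulAut.conj (z₂ * z₁))] at h1
    rwa [f1, f2, f3] at h1

theorem exists_spRel [Finite F] : ∃ R : SpRel (d + 2) F G, (∀ i, R.φ i = phiN φ S i) ∧
    ∀ i j a, i ≠ j → R.E i j a = XN ψ S i j a := by
  obtain ⟨e, he⟩ := exists_presentation (F := F) (d + 3) (by omega)
  let Ψ : Matrix.SpecialLinearGroup (Fin (d + 3)) F →* G :=
    (PresentedGroup.toGroup (rels_eval H.slnRel)).comp e.symm.toMonoidHom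
  have hΨ : ∀ i j, i ≠ j → ∀ a, Ψ (trv (d + 3) F i j a) = XN ψ S i j a := by
    intro i j h a
    have : trv (d + 3) F i j a = e (PresentedGroup.of (⟨(i, j), h⟩, a)) := by
      rw [he]; simp [trv, h]
    rw [this]
    show PresentedGroup.toGroup (rels_eval H.slnRel) (e.symm (e _)) = _
    rw [MulEquiv.symm_apply_apply, PresentedGroup.toGroup.of]
  refine ⟨{
    φ := phiN φ S
    ψ := Ψ
    φcomm := fun i j h => H.phiN_comm h
    φE := fun i j k h hki hkj g a => by rw [hΨ i j h]; exact H.rφE h hki hkj g a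
    hE₁ := fun i j h l a => by rw [hΨ i j h, hΨ i j h]; exact H.rE₁ h l a
    hE₂ := fun i j h l a => by rw [hΨ i j h, hΨ i j h]; exact H.rE₂ h l a
    ww := fun i j h a => by rw [hΨ i j h, hΨ j i h.symm]; exact H.rww h a
    EU := fun i j h a t => by rw [hΨ i j h, hΨ i j h]; exact H.rEU h a t
    EUi := fun i j h a t => by rw [hΨ i j h]; exact H.rEUi h a t
    nφ := fun i j h g => ?_ }, fun i => rfl, fun i j a h => hΨ i j h a⟩
  obtain ⟨π, rfl, rfl⟩ := H.exists_pair h
  have hn : Ψ (ntv (π 0) (π 1)) = cj S π (ψ matT) := by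
    rw [ntv, map_mul, map_mul, hΨ _ _ h, hΨ _ _ h.symm, matT_eq, map_mul, map_mul, map_mul, map_mul,
      ← H.XN_zero_one, ← H.XN_one_zero, H.cj_XN _ (by first | exact ne01 | exact ne02 | exact ne12 | exact ne01.symm | exact ne02.symm | exact ne12.symm),
      H.cj_XN _ (by first | exact ne01 | exact ne02 | exact ne12 | exact ne01.symm | exact ne02.symm | exact ne12.symm)]
  rw [hn, ← H.cj_phi, ← H.cj_phiN, H.phiN_one, R2.snd_apply]
  simp only [map_mul, map_inv]

end RN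

end Cfsg.Agent.Lib.ShortPresSp
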