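import Cfsg.Agent.Lib.Symplectic.Std

/-!
# Short presentations of symplectic groups, part 7

From a presentation of `Sp` to one of `PSp`: one more relator.
-/

set_option autoImplicit false

namespace Cfsg.Agent.Lib.ShortPresSp

theorem exists_quotient_pres {ι G : Type*} [Group G] (N : Subgroup G) [N.Normal] (z : G)
    (hz : N = Subgroup.normalClosure {z}) {k : ℕ}
    (h : ∃ rels : Finset (FreeGroup ι), rels.card ≤ k ∧
      Nonempty (PresentedGroup (↑rels : Set (FreeGroup ι)) ≃* G)) :
    ∃ rels : Finset (FreeGroup ι), rels.card ≤ k + 1 ∧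
      Nonempty (PresentedGroup (↑rels : Set (FreeGroup ι)) ≃* G ⧸ N) := by
  classical
  obtain ⟨rels, hc, ⟨e⟩⟩ := h
  let g : FreeGroup ι →* G := e.toMonoidHom.comp (PresentedGroup.mk _)
  have hg : Function.Surjective g := e.surjective.comp (PresentedGroup.mk_surjective _)
  obtain ⟨w, hw⟩ := hg z
  refine ⟨insert w rels, (Finset.card_insert_le _ _).trans (by omega), ?_⟩
  let f : FreeGroup ι →* G ⧸ N := (QuotientGroup.mk' N).comp g
  have hf : Function.Surjective f := (QuotientGroup.mk'_surjective N).comp hg
  have hgker : g.ker = Subgroup.normalClosure (↑rels : Set (FreeGroup ι)) := by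
    ext x
    rw [MonoidHom.mem_ker, MonoidHom.comp_apply, MulEquiv.coe_toMonoidHom, EmbeddingLike.map_eq_one_iff,
      PresentedGroup.mk_eq_one_iff]
  have hker : f.ker = Subgroup.normalClosure (↑(insert w rels) : Set (FreeGroup ι)) := by
    have h1 : f.ker = Subgroup.comap g ((Subgroup.normalClosure {w}).map g) := by
      rw [Subgroup.map_normalClosure _ g hg, Set.image_singleton, hw, ← hz, ← MonoidHom.comap_ker,
        QuotientGroup.ker_mk']
    rw [h1, Subgroup.comap_map_eq, hgker, Finset.coe_insert]
    refine le_antisymm (sup_le (Subgroup.normalClosure_mono (Set.singleton_subset_iff.2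
      (Set.mem_insert _ _))) (Subgroup.normalClosure_mono (Set.subset_insert _ _)))
      (Subgroup.normalClosure_le_normal (Set.insert_subset ?_ ?_))
    · exact Subgroup.mem_sup_left (Subgroup.subset_normalClosure rfl)
    · exact fun x hx => Subgroup.mem_sup_right (Subgroup.subset_normalClosure hx)
  exact ⟨(QuotientGroup.quotientMulEquivOfEq hker.symm).trans
    (QuotientGroup.quotientKerEquivOfSurjective f hf)⟩

theorem exists_center_gen {F : Type*} [Field F] [Finite F] {m : ℕ} (hm : 1 ≤ m) :
    ∃ z, Subgroup.center (Matrix.symplecticGroup (Fin m) F) = Subgroup.normalClosure {z} := by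
  set C := Subgroup.center (Matrix.symplecticGroup (Fin m) F) with hC
  have hcard : Nat.card C ≤ 2 := by
    rw [hC, Symplectic.card_center_sp (q := Nat.card F) rfl hm]
    exact Nat.le_of_dvd two_pos (Nat.gcd_dvd_left _ _)
  haveI : Finite C := Nat.finite_of_card_ne_zero (by
    rw [hC, Symplectic.card_center_sp (q := Nat.card F) rfl hm]
    exact (Nat.gcd_pos_of_pos_left _ two_pos).ne')
  obtain ⟨z, hzC, hz⟩ : ∃ z ∈ C, ∀ y ∈ C, y = 1 ∨ y = z := by
    by_cases h : ∀ y ∈ C, y = 1
    · exact ⟨1, one_mem _, fun y hy => Or.inl (h y hy)⟩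
    · push Not at h
      obtain ⟨z, hzC, hz1⟩ := h
      refine ⟨z, hzC, fun y hy => ?_⟩
      by_contra hy'
      push Not at hy'
      have hinj : Function.Injective (![⟨1, one_mem _⟩, ⟨z, hzC⟩, ⟨y, hy⟩] : Fin 3 → C) := by
        intro a b hab
        fin_cases a <;> fin_cases b <;> first
          | rfl
          | (exfalso; simp [Subtype.ext_iff, eq_comm, hz1, hy'.1, hy'.2, Ne.symm hy'.2] at hab)
      have := Nat.card_le_card_of_injective _ hinj
      simp at this
      omega
  refine ⟨z, le_antisymm (fun y hy => ?_) (Subgroup.normalClosure_le_normal (by simpa using hzC))⟩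
  rcases hz y hy with rfl | rfl
  · exact one_mem _
  · exact Subgroup.subset_normalClosure rfl

end Cfsg.Agent.Lib.ShortPresSp
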