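import Cfsg.Agent.Lib.ShortPresSp.PresN
import Cfsg.Agent.Lib.ShortPresSp.Quot
import Cfsg.Agent.Lib.ShortPresSym.Subst
import Cfsg.Agent.Lib.PSpTwoGen49.Main

/-!
# Short presentations of symplectic groups, part 11

Changes of generators and the bounds.
-/

set_option autoImplicit false
set_option linter.unusedSectionVars false

namespace Cfsg.Agent.Lib.ShortPresSp

open Cfsg.Agent.Lib.GenSp

/-- At most `r` relators on `k` generators. -/
def HasShortPres (k r : ℕ) (H : Type*) [Group H] : Prop :=
  ∃ rels : Finset (FreeGroup (Fin k)), rels.card ≤ r ∧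
    Nonempty (PresentedGroup (↑rels : Set (FreeGroup (Fin k))) ≃* H)

namespace HasShortPres

variable {k r : ℕ} {H : Type*} [Group H]

theorem mono {r' : ℕ} (h : HasShortPres k r H) (hr : r ≤ r') : HasShortPres k r' H := by
  obtain ⟨rels, hc, e⟩ := h
  exact ⟨rels, hc.trans hr, e⟩

/-- Tietze: one generator more costs one relator more. -/
theorem pad (h : HasShortPres k r H) : HasShortPres (k + 1) (r + 1) H := by
  classical
  obtain ⟨rels, hc, ⟨e⟩⟩ := h
  set rels' : Finset (FreeGroup (Fin (k + 1))) :=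
    insert (FreeGroup.of (Fin.last k)) (rels.image (FreeGroup.map Fin.castSucc)) with hrels'
  refine ⟨rels', (Finset.card_insert_le _ _).trans
    (Nat.add_le_add_right (Finset.card_image_le.trans hc) 1), ?_⟩
  let f : Fin (k + 1) → PresentedGroup (↑rels : Set (FreeGroup (Fin k))) :=
    Fin.snoc (fun i => PresentedGroup.of i) 1
  have hcomp : (FreeGroup.lift f).comp (FreeGroup.map Fin.castSucc) = PresentedGroup.mk _ := by
    ext i; simp [f, PresentedGroup.of]
  have hf : ∀ x ∈ (↑rels' : Set (FreeGroup (Fin (k + 1)))), FreeGroup.lift f x = 1 := by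
    intro x hx
    rw [Finset.mem_coe, hrels', Finset.mem_insert, Finset.mem_image] at hx
    rcases hx with rfl | ⟨q, hq, rfl⟩
    · simp [f]
    · rw [← MonoidHom.comp_apply, hcomp]
      exact PresentedGroup.one_of_mem hq
  let g : Fin k → PresentedGroup (↑rels' : Set (FreeGroup (Fin (k + 1)))) :=
    fun i => PresentedGroup.of i.castSucc
  have hg : ∀ x ∈ (↑rels : Set (FreeGroup (Fin k))), FreeGroup.lift g x = 1 := by
    intro x hx
    have : FreeGroup.lift g = (PresentedGroup.mk _).comp (FreeGroup.map Fin.castSucc) := by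
      ext i; simp [g, PresentedGroup.of]
    rw [this, MonoidHom.comp_apply]
    exact PresentedGroup.one_of_mem (Finset.mem_coe.2
      (Finset.mem_insert_of_mem (Finset.mem_image_of_mem _ hx)))
  let Φ := PresentedGroup.toGroup hf
  let Ψ := PresentedGroup.toGroup hg
  have h1 : Φ.comp Ψ = MonoidHom.id _ := PresentedGroup.ext fun i => by simp [Φ, Ψ, g, f]
  have h2 : Ψ.comp Φ = MonoidHom.id _ := PresentedGroup.ext fun i => by
    induction i using Fin.lastCases with
    | last =>
      simp only [MonoidHom.comp_apply, Φ, PresentedGroup.toGroup.of, f, Fin.snoc_last, map_one,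
        MonoidHom.id_apply]
      exact (PresentedGroup.one_of_mem (Finset.mem_coe.2 (Finset.mem_insert_self _ _))).symm
    | cast i => simp [Φ, Ψ, f, g]
  exact ⟨(MonoidHom.toMulEquiv Φ Ψ h2 h1).trans e⟩

/-- Change to any pair of generators at the cost of two relators. -/
theorem two (h : HasShortPres k r H) (a b : H) (hab : Subgroup.closure ({a, b} : Set H) = ⊤) :
    HasShortPres 2 (r + 2) H := by
  classical
  obtain ⟨rels, hc, ⟨e⟩⟩ := h
  have hsurj : Function.Surjective (FreeGroup.lift ![a, b]) := by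
    rw [← MonoidHom.range_eq_top, FreeGroup.range_lift_eq_closure, ← hab,
      Matrix.range_cons, Matrix.range_cons, Matrix.range_empty, Set.union_empty, Set.singleton_union]
  choose W hW using fun i => hsurj (e (PresentedGroup.of i))
  choose v hv using fun j => PresentedGroup.mk_surjective (↑rels : Set (FreeGroup (Fin k)))
    (e.symm (![a, b] j))
  have hcomp : (FreeGroup.lift ![a, b]).comp (FreeGroup.lift W) =
      e.toMonoidHom.comp (PresentedGroup.mk _) := by
    ext i; simp [hW, PresentedGroup.of]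
  have key : ∀ j, FreeGroup.lift ![a, b] (FreeGroup.lift W (v j)) = ![a, b] j := fun j => by
    rw [← MonoidHom.comp_apply, hcomp, MonoidHom.comp_apply, hv]
    exact e.apply_symm_apply _
  set rels' := rels.image (FreeGroup.lift W) ∪
    {FreeGroup.of 0 * (FreeGroup.lift W (v 0))⁻¹, FreeGroup.of 1 * (FreeGroup.lift W (v 1))⁻¹}
    with hrels'
  refine ⟨rels', (Finset.card_union_le _ _).trans
    (Nat.add_le_add (Finset.card_image_le.trans hc) Finset.card_le_two), ?_⟩
  have hF : ∀ x ∈ (↑rels' : Set (FreeGroup (Fin 2))), FreeGroup.lift ![a, b] x = 1 := by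
    intro x hx
    simp only [Finset.mem_coe, hrels', Finset.mem_union, Finset.mem_image, Finset.mem_insert,
      Finset.mem_singleton] at hx
    rcases hx with ⟨s, hs, rfl⟩ | rfl | rfl
    · rw [← MonoidHom.comp_apply, hcomp, MonoidHom.comp_apply, PresentedGroup.one_of_mem hs, map_one]
    · rw [map_mul, map_inv, key, FreeGroup.lift_apply_of, mul_inv_cancel]
    · rw [map_mul, map_inv, key, FreeGroup.lift_apply_of, mul_inv_cancel]
  let F := PresentedGroup.toGroup hF
  let ι : Fin k → PresentedGroup (↑rels' : Set (FreeGroup (Fin 2))) :=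
    fun i => PresentedGroup.mk _ (W i)
  have hι : FreeGroup.lift ι = (PresentedGroup.mk _).comp (FreeGroup.lift W) := by
    ext i; simp [ι]
  have hΨ : ∀ x ∈ (↑rels : Set (FreeGroup (Fin k))), FreeGroup.lift ι x = 1 := by
    intro x hx
    rw [hι, MonoidHom.comp_apply]
    exact PresentedGroup.one_of_mem
      (Finset.mem_coe.2 (Finset.mem_union_left _ (Finset.mem_image_of_mem _ hx)))
  let Ψ := PresentedGroup.toGroup hΨ
  have hΨmk : ∀ w, Ψ (PresentedGroup.mk _ w) = FreeGroup.lift ι w := fun w => by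
    have : Ψ.comp (PresentedGroup.mk _) = FreeGroup.lift ι := by
      ext i; simp [Ψ, ← PresentedGroup.of.eq_def]
    exact DFunLike.congr_fun this w
  have hsurjΨ : Function.Surjective Ψ := by
    rw [← MonoidHom.range_eq_top, eq_top_iff, ← PresentedGroup.closure_range_of, Subgroup.closure_le]
    rintro _ ⟨j, rfl⟩
    refine ⟨PresentedGroup.mk _ (v j), ?_⟩
    rw [hΨmk, hι, MonoidHom.comp_apply, eq_comm]
    refine mul_inv_eq_one.1 ?_
    rw [show PresentedGroup.of j = PresentedGroup.mk (↑rels' : Set (FreeGroup (Fin 2))) (FreeGroup.of j)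
      from rfl, ← map_inv, ← map_mul]
    refine PresentedGroup.one_of_mem ?_
    fin_cases j <;> simp [hrels']
  have hFΨ : F.comp Ψ = e.toMonoidHom := by
    refine PresentedGroup.ext fun i => ?_
    show F (Ψ (PresentedGroup.of i)) = e (PresentedGroup.of i)
    rw [PresentedGroup.toGroup.of, ← hW]
    have : F.comp (PresentedGroup.mk _) = FreeGroup.lift ![a, b] := by
      ext j; simp [F, ← PresentedGroup.of.eq_def]
    exact DFunLike.congr_fun this (W i)
  have hb : Function.Bijective (F ∘ Ψ) := by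
    rw [← MonoidHom.coe_comp, hFΨ]; exact e.bijective
  refine ⟨MulEquiv.ofBijective F ⟨fun x y hxy => ?_, hb.2.of_comp⟩⟩
  obtain ⟨x, rfl⟩ := hsurjΨ x
  obtain ⟨y, rfl⟩ := hsurjΨ y
  rw [hb.1 hxy]

theorem quotient (h : HasShortPres k r H) (N : Subgroup H) [N.Normal] (z : H)
    (hz : N = Subgroup.normalClosure {z}) : HasShortPres k (r + 1) (H ⧸ N) :=
  exists_quotient_pres N z hz h

end HasShortPres

variable {F : Type*} [Field F] [Fintype F]

theorem sp4 : HasShortPres 6 34 (SpG 2 F) := exists_pres_sp4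

theorem sp6 : HasShortPres 8 51 (SpG 3 F) := by
  obtain ⟨rels, hc, he⟩ := exists_pres_spN (F := F) (d := 0) (k := 2) (r := 8)
    (ShortPresSym.hasPres_three.1).two_eight
  exact ⟨rels, hc.trans (by norm_num), he⟩

theorem spn {n : ℕ} (hn : 4 ≤ n) : HasShortPres 9 56 (SpG n F) := by
  obtain ⟨d, rfl⟩ : ∃ d, n = d + 3 := ⟨n - 3, by omega⟩
  have hP : ShortPresSym.HasPres (Equiv.Perm (Fin (d + 3))) := by
    rcases Nat.lt_or_ge d 2 with h | h
    · obtain rfl : d = 1 := by omega
      exact ShortPresSym.hasPres_four.1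
    · exact (ShortPresSym.hasPres_all _ (by omega)).1
  obtain ⟨rels, hc, e, -⟩ := hP
  obtain ⟨rels', hc', he'⟩ := exists_pres_spN (F := F) (d := d) (k := 3) (r := 7) ⟨rels, hc, ⟨e⟩⟩
  exact ⟨rels', hc'.trans (by omega), he'⟩

theorem exists_pres_all {n : ℕ} (hn : 2 ≤ n) : ∃ k, HasShortPres k 56 (SpG n F) := by
  rcases Nat.lt_or_ge n 4 with h | h
  · interval_cases n
    · exact ⟨6, sp4.mono (by norm_num)⟩
    · exact ⟨8, sp6.mono (by norm_num)⟩
  · exact ⟨9, spn h⟩

end Cfsg.Agent.Lib.ShortPresSp
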