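import Cfsg.Agent.Lib.ShortPresSp.General

/-!
# Short presentations of symplectic groups, part 10

The presentation of `Sp` in rank at least three from one of the symmetric group.
-/

set_option autoImplicit false
set_option linter.unusedSectionVars false

namespace Cfsg.Agent.Lib.ShortPresSp

open Matrix Equiv Cfsg.Agent.Lib.ShortPresSL2 Cfsg.Agent.Lib.Schur.SteinbergSLn
open Cfsg.Agent.Lib.GenSp Cfsg.Agent.Lib.Forms.SpParabolic

variable {F : Type*} [Field F] {d : ℕ}

theorem glueN_model (s : Fin 3 → SL2 F) (LA LB LD : List (Perm (Fin (d + 3))))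
    (hA : ∀ l ∈ LA, l 0 = 0) (hB : ∀ l ∈ LB, l 0 = 0 ∧ l 1 = 1)
    (hD : ∀ l ∈ LD, l 0 ≠ 1 ∧ l 1 ≠ 0)
    (ψ₂ : SL2 F →* SpG (d + 3) F) (hU : ∀ a, ψ₂ (matU a) = eE 0 1 a)
    (hL : ∀ a, ψ₂ (matL a) = eE 1 0 a) :
    ∀ x ∈ glueN s LA LB LD (lemb 0 : SL2 F → SpG (d + 3) F) ψ₂ (fun π => glHom (pm π)), x = 1 := by
  have hT : ψ₂ matT = slHom (ntv 0 1) := by
    rw [matT_eq, map_mul, map_mul, hU, hL, ntv, map_mul, map_mul]; rfl
  have hc : ∀ (π : Perm (Fin (d + 3))) (a : F) (i j : Fin (d + 3)), i ≠ j →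
      glHom (pm π) * eE i j a * (glHom (pm π) : SpG (d + 3) F)⁻¹ = eE (π i) (π j) a := fun π a i j h => by
    rw [glHom_pm_eE π h, mul_inv_cancel_right]
  intro x hx
  simp only [glueN, List.mem_append, List.mem_map, List.mem_cons, List.not_mem_nil, or_false, hU,
    hc _ _ _ _ ne01, p02_zero, p02_one, p12_zero, p12_one] at hx
  have sw : glHom (pm (swap 0 1)) * (ψ₂ matT * lemb 0 (matD (-1)))⁻¹ = (1 : SpG (d + 3) F) := by
    rw [mul_inv_eq_one, hT, slHom_ntv ne01, mul_assoc, ← map_mul, ← matD_mul]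
    simp [matD_one]
  rcases hx with ((((((rfl | ⟨l, hl, rfl⟩) | ⟨l, hl, rfl⟩) | ⟨l, hl, rfl⟩) | ⟨l, hl, rfl⟩) | (rfl | rfl | rfl)) |
    ⟨l, hl, rfl⟩) | rfl
  · exact sw
  · refine comm2_eq_one.2 ?_
    show _ * _ = _ * _
    rw [glHom_pm_lemb, hA l hl]
  · refine comm2_eq_one.2 ?_
    show _ * _ = _ * _
    rw [glHom_pm_lemb, hA l hl]
  · refine comm2_eq_one.2 ?_
    show _ * _ = _ * _
    rw [glHom_pm_lemb, hA l hl]
  · refine comm2_eq_one.2 ?_
    show _ * _ = _ * _
    rw [glHom_pm_eE _ ne01, (hB l hl).1, (hB l hl).2]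
  · exact comm2_eq_one.2 (lemb_commute_eE ne12 ne01 ne02 _ _)
  · exact comm2_eq_one.2 (lemb_commute_eE ne12 ne01 ne02 _ _)
  · exact comm2_eq_one.2 (lemb_commute_eE ne12 ne01 ne02 _ _)
  · refine comm2_eq_one.2 ?_
    rw [← slHom_trv, ← slHom_trv]
    refine Commute.map ?_ slHom
    exact (trv_rel (d + 3)).comm 0 1 (l 0) (l 1) ne01 (l.injective.ne ne01) (hD l hl).2.symm
      (hD l hl).1.symm 1 1
  · refine mul_inv_eq_one.2 ?_
    rw [← slHom_trv, ← slHom_trv, ← slHom_trv, ← map_mul, ← map_mul, ← map_mul]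
    have := (trv_rel (F := F) (d + 3)).chain 0 1 2 ne01 ne12 ne02 1 1
    rw [one_mul] at this
    rw [this]

/-- The images of the generators. -/
noncomputable def imgN (P : Sl2Pres F) (ψ₂ : SL2 F →* SpG (d + 3) F) {k : ℕ}
    (t : Fin k → Perm (Fin (d + 3))) : Fin ((3 + 3) + k) → SpG (d + 3) F :=
  Fin.addCases (Fin.addCases (fun i => lemb 0 (P.s i)) (fun i => ψ₂ (P.s i)))
    (fun i => glHom (pm (t i)))

theorem imgN_A (P : Sl2Pres F) (ψ₂ : SL2 F →* SpG (d + 3) F) {k : ℕ}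
    (t : Fin k → Perm (Fin (d + 3))) (i : Fin 3) :
    imgN P ψ₂ t (Fin.castAdd k (Fin.castAdd 3 i)) = lemb 0 (P.s i) :=
  (Fin.addCases_left (m := 3 + 3) (n := k) _).trans (Fin.addCases_left (m := 3) (n := 3) i)

theorem imgN_B (P : Sl2Pres F) (ψ₂ : SL2 F →* SpG (d + 3) F) {k : ℕ}
    (t : Fin k → Perm (Fin (d + 3))) (i : Fin 3) :
    imgN P ψ₂ t (Fin.castAdd k (Fin.natAdd 3 i)) = ψ₂ (P.s i) :=
  (Fin.addCases_left (m := 3 + 3) (n := k) _).trans (Fin.addCases_right (m := 3) (n := 3) i)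

theorem imgN_S (P : Sl2Pres F) (ψ₂ : SL2 F →* SpG (d + 3) F) {k : ℕ}
    (t : Fin k → Perm (Fin (d + 3))) (i : Fin k) :
    imgN P ψ₂ t (Fin.natAdd (3 + 3) i) = glHom (pm (t i)) :=
  Fin.addCases_right (m := 3 + 3) (n := k) i

theorem exists_pres_spN [Fintype F] {k r : ℕ} (hS : ∃ rels : Finset (FreeGroup (Fin k)), rels.card ≤ r ∧
      Nonempty (PresentedGroup (↑rels : Set (FreeGroup (Fin k))) ≃* Perm (Fin (d + 3)))) :
    ∃ rels : Finset (FreeGroup (Fin ((3 + 3) + k))),
      rels.card ≤ 34 + r + (5 + 3 * min 2 (d + 1) + min 2 d + min 2 (d + 1)) ∧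
      Nonempty (PresentedGroup (↑rels : Set (FreeGroup (Fin ((3 + 3) + k)))) ≃* SpG (d + 3) F) := by
  classical
  obtain ⟨rS, hrS, ⟨eS⟩⟩ := hS
  obtain ⟨P⟩ := Sl2Pres.nonempty (F := F)
  obtain ⟨LA, hLA, hAfix, hA⟩ := exists_fix_gens ({0} : Finset (Fin (d + 3)))
  obtain ⟨LB, hLB, hBfix, hB⟩ := exists_fix_gens ({0, 1} : Finset (Fin (d + 3)))
  rw [Finset.card_singleton] at hLA
  rw [Finset.card_pair ne01] at hLB
  obtain ⟨LD, hLD, hD1, hD2, hDfix⟩ : ∃ LD : List (Perm (Fin (d + 3))), LD.length ≤ min 2 (d + 1) ∧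
      (∃ π ∈ LD, π 0 = 0 ∧ π 1 = 2) ∧
      (∀ k l : Fin (d + 3), k ≠ l → k ≠ 0 → k ≠ 1 → l ≠ 0 → l ≠ 1 →
        ∃ π ∈ LD, π 0 ≠ 0 ∧ π 0 ≠ 1 ∧ π 1 ≠ 0 ∧ π 1 ≠ 1) ∧
      ∀ l ∈ LD, l 0 ≠ 1 ∧ l 1 ≠ 0 := by
    have hp : (p02 : Perm (Fin (d + 3))) 0 ≠ 1 ∧ (p02 : Perm (Fin (d + 3))) 1 ≠ 0 := by
      rw [p02_zero, p02_one]; exact ⟨ne01, ne02.symm⟩
    rcases Nat.eq_zero_or_pos d with rfl | hd
    · refine ⟨[p02], by simp, ⟨p02, by simp, p02_zero, p02_one⟩, fun k l h h1 h2 h3 h4 => ?_, by simpa using hp⟩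
      exfalso
      have a1 := Fin.val_ne_of_ne h
      have a2 : (k : ℕ) ≠ 0 := fun e => h1 (Fin.ext e)
      have a3 : (k : ℕ) ≠ 1 := fun e => h2 (Fin.ext e)
      have a4 : (l : ℕ) ≠ 0 := fun e => h3 (Fin.ext e)
      have a5 : (l : ℕ) ≠ 1 := fun e => h4 (Fin.ext e)
      omega
    · obtain ⟨σ, hσ⟩ := exists_perm_map (![0, 1] : Fin 2 → Fin (d + 3))
        ![⟨2, by omega⟩, ⟨3, by omega⟩]
        (fun x y h => by fin_cases x <;> fin_cases y <;> simp [ne01, ne01.symm] at h ⊢)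
        (fun x y h => by fin_cases x <;> fin_cases y <;> simp [Fin.ext_iff] at h ⊢)
      have e0 : σ 0 = ⟨2, by omega⟩ := hσ 0
      have e1 : σ 1 = ⟨3, by omega⟩ := hσ 1
      refine ⟨[p02, σ], by simp; omega, ⟨p02, by simp, p02_zero, p02_one⟩,
        fun k l _ _ _ _ _ => ⟨σ, by simp, ?_⟩, ?_⟩
      · simp [e0, e1, Fin.ext_iff]
      · intro l hl
        simp only [List.mem_cons, List.not_mem_nil, or_false] at hl
        rcases hl with rfl | rfl
        · exact hp
        · rw [e0, e1]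
          exact ⟨fun h => by simp [Fin.ext_iff] at h, fun h => by simp [Fin.ext_iff] at h⟩
  obtain ⟨e₂, he₂⟩ := exists_hom_two (trv_rel (F := F) (d + 3)) (ne01 : (0 : Fin (d + 3)) ≠ 1) ne02 ne12
  set ψ₂ := slHom.comp e₂ with hψ₂
  have hU : ∀ a, ψ₂ (matU a) = eE 0 1 a := fun a => by
    rw [hψ₂, MonoidHom.comp_apply, ← trv_two_upper,
      show trv 2 F 0 1 a = Matrix.SpecialLinearGroup.transvection (show (0 : Fin 2) ≠ 1 by decide) a by
        simp [trv], he₂]
    rfl
  have hL : ∀ a, ψ₂ (matL a) = eE 1 0 a := fun a => by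
    rw [hψ₂, MonoidHom.comp_apply, ← trv_two_lower,
      show trv 2 F 1 0 a = Matrix.SpecialLinearGroup.transvection (show (1 : Fin 2) ≠ 0 by decide) a by
        simp [trv], he₂]
    rfl
  set t : Fin k → Perm (Fin (d + 3)) := fun i => eS (PresentedGroup.of i) with ht
  have hwS : ∀ π, ∃ w, FreeGroup.lift t w = π := by
    intro π
    obtain ⟨w, hw⟩ := PresentedGroup.mk_surjective _ (eS.symm π)
    refine ⟨w, ?_⟩
    have : FreeGroup.lift t = eS.toMonoidHom.comp (PresentedGroup.mk _) := by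
      ext i; simp [t, PresentedGroup.of]
    rw [this, MonoidHom.comp_apply, hw]
    exact eS.apply_symm_apply π
  choose wS hwS using hwS
  let iA : Fin 3 → Fin ((3 + 3) + k) := fun i => Fin.castAdd k (Fin.castAdd 3 i)
  let iB : Fin 3 → Fin ((3 + 3) + k) := fun i => Fin.castAdd k (Fin.natAdd 3 i)
  let iS : Fin k → Fin ((3 + 3) + k) := Fin.natAdd (3 + 3)
  let f := imgN P ψ₂ t
  have fA : f ∘ iA = fun i => lemb 0 (P.s i) := funext (imgN_A P ψ₂ t)
  have fB : f ∘ iB = fun i => ψ₂ (P.s i) := funext (imgN_B P ψ₂ t)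
  have fS : f ∘ iS = fun i => glHom (pm (t i)) := funext (imgN_S P ψ₂ t)
  let WA := fun g => FreeGroup.map iA (P.word g)
  let WB := fun g => FreeGroup.map iB (P.word g)
  let WS := fun π => FreeGroup.map iS (wS π)
  let L := P.rels.toList.map (FreeGroup.map iA) ++ P.rels.toList.map (FreeGroup.map iB) ++
    rS.toList.map (FreeGroup.map iS) ++ glue2 P.s P.ω WA WB ++ glueN P.s LA LB LD WA WB WS
  have evS : ∀ w, FreeGroup.lift f (FreeGroup.map iS w) = glHom (pm (FreeGroup.lift t w)) := by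
    intro w
    rw [lift_map, fS]
    have : FreeGroup.lift (fun i => (glHom (pm (t i)) : SpG (d + 3) F)) =
        (glHom.comp pm).comp (FreeGroup.lift t) := by ext i; simp
    exact DFunLike.congr_fun this w
  have eA : (fun g => FreeGroup.lift f (WA g)) = (lemb 0 : SL2 F → SpG (d + 3) F) := funext fun g => by
    rw [lift_map, fA, P.lift_word]
  have eB : (fun g => FreeGroup.lift f (WB g)) = (ψ₂ : SL2 F → SpG (d + 3) F) := funext fun g => by
    rw [lift_map, fB, P.lift_word]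
  have eSS : (fun π => FreeGroup.lift f (WS π)) = fun π => (glHom (pm π) : SpG (d + 3) F) :=
    funext fun π => by rw [evS, hwS]
  have hf : ∀ x ∈ (↑L.toFinset : Set (FreeGroup (Fin ((3 + 3) + k)))), FreeGroup.lift f x = 1 := by
    intro x hx
    simp only [List.coe_toFinset, Set.mem_setOf_eq, L, List.mem_append, List.mem_map,
      Finset.mem_toList] at hx
    rcases hx with (((⟨q, hq, rfl⟩ | ⟨q, hq, rfl⟩) | ⟨q, hq, rfl⟩) | hx) | hx
    · rw [lift_map, fA]; exact P.lift_rels _ hq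
    · rw [lift_map, fB]; exact P.lift_rels _ hq
    · rw [evS]
      have : FreeGroup.lift t q = 1 := by
        have h : FreeGroup.lift t = eS.toMonoidHom.comp (PresentedGroup.mk _) := by
          ext i; simp [t, PresentedGroup.of]
        rw [h, MonoidHom.comp_apply, PresentedGroup.one_of_mem hq, map_one]
      rw [this, map_one, map_one]
    · have h := List.mem_map_of_mem (f := FreeGroup.lift f) hx
      rw [map_glue2, eA, eB] at h
      exact glue2_model (n := d + 2) P.s P.ω ne01 ψ₂ hU hL _ h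
    · have h := List.mem_map_of_mem (f := FreeGroup.lift f) hx
      rw [map_glueN, eA, eB, eSS] at h
      exact glueN_model P.s LA LB LD (fun l hl => hAfix l hl 0 (by simp))
        (fun l hl => ⟨hBfix l hl 0 (by simp), hBfix l hl 1 (by simp)⟩) hDfix ψ₂ hU hL _ h
  refine ⟨L.toFinset, (List.toFinset_card_le _).trans ?_, ?_⟩
  · simp only [L, List.length_append, List.length_map, Finset.length_toList, length_glue2, length_glueN]
    have := P.card_le
    omega
  set G := PresentedGroup (↑L.toFinset : Set (FreeGroup (Fin ((3 + 3) + k))))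
  set π := PresentedGroup.mk (↑L.toFinset : Set (FreeGroup (Fin ((3 + 3) + k)))) with hπ
  have hrel : ∀ x ∈ L, π x = 1 := fun x hx =>
    PresentedGroup.one_of_mem (Finset.mem_coe.2 (List.mem_toFinset.2 hx))
  obtain ⟨φ, hφ, hφs⟩ := P.exists_hom (π.comp (FreeGroup.map iA)) fun q hq =>
    hrel _ (by simp only [L, List.mem_append, List.mem_map, Finset.mem_toList]
               exact Or.inl (Or.inl (Or.inl (Or.inl ⟨q, hq, rfl⟩))))
  obtain ⟨ψ, hψ, hψs⟩ := P.exists_hom (π.comp (FreeGroup.map iB)) fun q hq =>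
    hrel _ (by simp only [L, List.mem_append, List.mem_map, Finset.mem_toList]
               exact Or.inl (Or.inl (Or.inl (Or.inr ⟨q, hq, rfl⟩))))
  let πS := π.comp (FreeGroup.map iS)
  have hπS : ∀ q ∈ (↑rS : Set (FreeGroup (Fin k))), FreeGroup.lift (fun i => πS (FreeGroup.of i)) q = 1 := by
    intro q hq
    have : FreeGroup.lift (fun i => πS (FreeGroup.of i)) = πS := by ext i; simp
    rw [this]
    refine hrel _ ?_
    simp only [L, List.mem_append, List.mem_map, Finset.mem_toList]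
    exact Or.inl (Or.inl (Or.inr ⟨q, hq, rfl⟩))
  let S : Perm (Fin (d + 3)) →* G := (PresentedGroup.toGroup hπS).comp eS.symm.toMonoidHom
  have hS : ∀ σ, S σ = π (WS σ) := by
    have : S.comp (FreeGroup.lift t) = πS := by ext i; simp [S, t]
    intro σ
    have := DFunLike.congr_fun this (wS σ)
    rwa [MonoidHom.comp_apply, hwS] at this
  have hSgen : ∀ i, S (t i) = π (FreeGroup.of (iS i)) := fun i => by simp [S, t, πS]
  have H : RN P.s P.ω LA LB LD φ ψ S := by
    refine ⟨⟨P.closure_s, P.hω, sum_two_sq, fun x hx => ?_⟩,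
      fun σ hσ => hA σ (fun x hx => by rw [Finset.mem_singleton] at hx; subst hx; exact hσ),
      fun σ h0 h1 => hB σ (fun x hx => by
        simp only [Finset.mem_insert, Finset.mem_singleton] at hx
        rcases hx with rfl | rfl <;> assumption),
      fun l hl => ⟨hBfix l hl 0 (by simp), hBfix l hl 1 (by simp)⟩, hD1, hD2, fun x hx => ?_⟩
    · rw [show (φ : SL2 F → G) = fun g => π (WA g) from funext hφ,
        show (ψ : SL2 F → G) = fun g => π (WB g) from funext hψ, ← map_glue2] at hx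
      obtain ⟨q, hq, rfl⟩ := List.mem_map.1 hx
      exact hrel q (List.mem_append.2 (Or.inl (List.mem_append.2 (Or.inr hq))))
    · rw [show (φ : SL2 F → G) = fun g => π (WA g) from funext hφ,
        show (ψ : SL2 F → G) = fun g => π (WB g) from funext hψ,
        show (S : Perm (Fin (d + 3)) → G) = fun σ => π (WS σ) from funext hS, ← map_glueN] at hx
      obtain ⟨q, hq, rfl⟩ := List.mem_map.1 hx
      exact hrel q (List.mem_append.2 (Or.inr hq))
  let ρ := PresentedGroup.toGroup hf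
  have hρof : ∀ x, ρ (π (FreeGroup.of x)) = f x := fun x => PresentedGroup.toGroup.of hf
  have hρφ : ∀ g, ρ (φ g) = lemb 0 g := by
    have : ρ.comp φ = lemb 0 := MonoidHom.eq_of_eqOn_dense P.closure_s (Set.forall_mem_range.2 fun i => by
      show ρ (φ (P.s i)) = _
      rw [hφs, MonoidHom.comp_apply, FreeGroup.map.of, hρof]
      exact congrFun fA i)
    exact DFunLike.congr_fun this
  have hρψ : ∀ g, ρ (ψ g) = ψ₂ g := by
    have : ρ.comp ψ = ψ₂ := MonoidHom.eq_of_eqOn_dense P.closure_s (Set.forall_mem_range.2 fun i => by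
      show ρ (ψ (P.s i)) = _
      rw [hψs, MonoidHom.comp_apply, FreeGroup.map.of, hρof]
      exact congrFun fB i)
    exact DFunLike.congr_fun this
  have hρS : ∀ σ, ρ (S σ) = glHom (pm σ) := by
    intro σ
    have h2 : (ρ.comp S).comp (FreeGroup.lift t) = (glHom.comp pm).comp (FreeGroup.lift t) := by
      ext i : 1
      simp only [MonoidHom.comp_apply, FreeGroup.lift_apply_of, hSgen, hρof]
      exact congrFun fS i
    have := DFunLike.congr_fun h2 (wS σ)
    simpa only [MonoidHom.comp_apply, hwS] using this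
  obtain ⟨R, hRφ, hRE⟩ := H.exists_spRel
  have hρcj : ∀ σ x, ρ (RN.cj S σ x) = glHom (pm σ) * ρ x * (glHom (pm σ))⁻¹ := fun σ x => by
    rw [RN.cj_apply, map_mul, map_mul, map_inv, hρS]
  refine ⟨MulEquiv.ofBijective ρ (R.bijective ρ ?_ ?_ ?_)⟩
  · intro i g
    rw [hRφ, show RN.phiN φ S i g = RN.cj S (swap 0 i) (φ g) from rfl, hρcj, hρφ, glHom_pm_lemb,
      mul_inv_cancel_right, swap_apply_left]
  · intro i j a h
    rw [hRE i j a h, RN.XN, hρcj, hρψ, hU, glHom_pm_eE _ ne01, mul_inv_cancel_right, toPair_zero h,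
      toPair_one]
  · set K := Subgroup.closure ({x | ∃ i g, x = R.φ i g} ∪ {x | ∃ i j a, x = R.E i j a}) with hK
    have kφ : ∀ i g, RN.phiN φ S i g ∈ K := fun i g =>
      Subgroup.subset_closure (Or.inl ⟨i, g, by rw [hRφ]⟩)
    have kX : ∀ i j, i ≠ j → ∀ a, RN.XN ψ S i j a ∈ K := fun i j h a =>
      Subgroup.subset_closure (Or.inr ⟨i, j, a, (hRE i j a h).symm⟩)
    have kψ : ∀ g, ψ g ∈ K := sl2_induction (p := fun g => ψ g ∈ K) (K.comap ψ) (fun _ h => h)
      (fun x => by rw [Subgroup.mem_comap, ← H.XN_zero_one]; exact kX _ _ ne01 _)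
      (fun x => by rw [Subgroup.mem_comap, ← H.XN_one_zero]; exact kX _ _ ne01.symm _)
    have kS : ∀ σ, S σ ∈ K := by
      intro σ
      have : σ ∈ Subgroup.closure {τ : Perm (Fin (d + 3)) | τ.IsSwap} := by
        rw [Perm.closure_isSwap]; trivial
      refine Subgroup.closure_induction (p := fun x _ => S x ∈ K) ?_ (by simp [one_mem])
        (fun x y _ _ hx hy => by rw [map_mul]; exact mul_mem hx hy)
        (fun x _ hx => by rw [map_inv]; exact inv_mem hx) this
      rintro _ ⟨x, y, hxy, rfl⟩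
      obtain ⟨τ, hx, hy⟩ := H.exists_pair hxy
      have e : S (swap x y) = RN.cj S τ (S (swap 0 1)) := by
        rw [RN.cj_apply, ← map_inv, ← map_mul, ← map_mul, ← hx, ← hy]
        congr 1
        exact swap_apply_apply τ 0 1
      rw [e, H.swap_eq, map_mul, H.cj_phi, matT_eq, map_mul, map_mul, map_mul, map_mul,
        ← H.XN_zero_one, ← H.XN_one_zero, H.cj_XN _ ne01, H.cj_XN _ ne01.symm, hx, hy]
      exact mul_mem (mul_mem (mul_mem (kX _ _ hxy _) (kX _ _ hxy.symm _)) (kX _ _ hxy _)) (kφ _ _)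
    refine eq_top_iff.2 ((PresentedGroup.closure_range_of _).ge.trans ((Subgroup.closure_le K).2 ?_))
    rintro _ ⟨x, rfl⟩
    show π (FreeGroup.of x) ∈ K
    induction x using Fin.addCases with
    | left x =>
      induction x using Fin.addCases with
      | left i =>
        have : π (FreeGroup.of (iA i)) = φ (P.s i) := by rw [hφs]; simp
        rw [show Fin.castAdd k (Fin.castAdd 3 i) = iA i from rfl, this, ← H.phiN_zero]
        exact kφ _ _
      | right i =>
        have : π (FreeGroup.of (iB i)) = ψ (P.s i) := by rw [hψs]; simp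
        rw [show Fin.castAdd k (Fin.natAdd 3 i) = iB i from rfl, this]
        exact kψ _
    | right i =>
      rw [show Fin.natAdd (3 + 3) i = iS i from rfl, ← hSgen]
      exact kS _

end Cfsg.Agent.Lib.ShortPresSp
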