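import Cfsg.Agent.Lib.ShortPresSp.Criterion
import Cfsg.Agent.Lib.ShortPresSp.ModelRel

/-!
# Short presentations of symplectic groups, part 5

Rank two: sixteen relations between two copies of `SL₂`, a long and a short one, imply all of
Steinberg's relations of type `C₂`.
-/

set_option autoImplicit false
set_option linter.unusedSectionVars false

namespace Cfsg.Agent.Lib.ShortPresSp

open Matrix Cfsg.Agent.Lib.ShortPresSL2 Cfsg.Agent.Lib.Schur.SteinbergSLn

variable {F : Type*} [Field F]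

theorem fin_two_pair {i j : Fin (1 + 1)} (h : i ≠ j) : i = 0 ∧ j = 1 ∨ i = 1 ∧ j = 0 := by
  revert i j; decide

theorem trv_one_upper (x : F) : trv (1 + 1) F (0 : Fin (1 + 1)) 1 x = matU x := trv_two_upper x

theorem trv_one_lower (x : F) : trv (1 + 1) F (1 : Fin (1 + 1)) 0 x = matL x := trv_two_lower x

/-- Commutator word. -/
def comm2 {X : Type*} [Group X] (a b : X) : X := a * b * a⁻¹ * b⁻¹

theorem comm2_eq_one {X : Type*} [Group X] {a b : X} : comm2 a b = 1 ↔ Commute a b := by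
  rw [comm2, mul_inv_eq_one, mul_inv_eq_iff_eq_mul]; rfl

theorem map_comm2 {X Y : Type*} [Group X] [Group Y] (f : X →* Y) (a b : X) :
    f (comm2 a b) = comm2 (f a) (f b) := by
  simp [comm2]

/-- The relators tying a long and a short `SL₂` together. -/
def glue2 {X : Type*} [Group X] (s : Fin 3 → SL2 F) (ω : Fˣ) (A B : SL2 F → X) : List X :=
  let n := B matT
  let A1 := fun g => n * A g * n⁻¹
  let w := A matT * A1 matT
  [comm2 (A (s 0)) (A1 (s 0)), comm2 (A (s 0)) (A1 (s 1)), comm2 (A (s 0)) (A1 (s 2)),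
    comm2 (A (s 1)) (A1 (s 1)), comm2 (A (s 1)) (A1 (s 2)), comm2 (A (s 2)) (A1 (s 2)),
    comm2 (A matT) (A1 matT),
    A (matD ω) * B (s 0) * (A (matD ω))⁻¹ * (B (dconj ω (s 0)))⁻¹,
    A (matD ω) * B (s 1) * (A (matD ω))⁻¹ * (B (dconj ω (s 1)))⁻¹,
    A (matD ω) * B (s 2) * (A (matD ω))⁻¹ * (B (dconj ω (s 2)))⁻¹,
    comm2 (n⁻¹ * w) (B (s 0)), comm2 (n⁻¹ * w) (B (s 1)), comm2 (n⁻¹ * w) (B (s 2)),
    comm2 (n * n) (A (matU 1)),
    comm2 (B (matU 1)) (A (matU 1)),
    B (matU 1) * A1 (matU 1) * (B (matU 1))⁻¹ *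
      (A1 (matU 1) * (A1 matT * B (matU (-1)) * (A1 matT)⁻¹) * A (matU 1))⁻¹]

theorem length_glue2 {X : Type*} [Group X] (s : Fin 3 → SL2 F) (ω : Fˣ) (A B : SL2 F → X) :
    (glue2 s ω A B).length = 16 := rfl

theorem map_glue2 {X Y : Type*} [Group X] [Group Y] (f : X →* Y) (s : Fin 3 → SL2 F) (ω : Fˣ)
    (A B : SL2 F → X) : (glue2 s ω A B).map f = glue2 s ω (fun g => f (A g)) (fun g => f (B g)) := by
  simp [glue2, map_comm2]

/-- The hypotheses in rank two. -/
structure R2 {G : Type*} [Group G] (s : Fin 3 → SL2 F) (ω : Fˣ) (φ ψ : SL2 F →* G) : Prop where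
  hs : Subgroup.closure (Set.range s) = ⊤
  hω : ∀ x : Fˣ, ∃ k : ℕ, ω ^ k = x
  hsq : ∀ x : F, ∃ a b : F, x = a ^ 2 + b ^ 2
  rel : ∀ x ∈ glue2 s ω φ ψ, x = 1

namespace R2

variable {G : Type*} [Group G] {s : Fin 3 → SL2 F} {ω : Fˣ} {φ ψ : SL2 F →* G} (H : R2 s ω φ ψ)

/-- The second long root `SL₂`. -/
def snd (φ ψ : SL2 F →* G) : SL2 F →* G := (MulAut.conj (ψ matT)).toMonoidHom.comp φ

theorem snd_apply (g : SL2 F) : snd φ ψ g = ψ matT * φ g * (ψ matT)⁻¹ := rfl

include H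

theorem ext_hom {f f' : SL2 F →* G} (h : ∀ i, f (s i) = f' (s i)) : f = f' :=
  MonoidHom.eq_of_eqOn_dense H.hs (Set.forall_mem_range.2 h)

theorem rel_comm (i j : Fin 3) (hij : i ≤ j) : Commute (φ (s i)) (snd φ ψ (s j)) := by
  have h := H.rel
  simp only [glue2, List.forall_mem_cons] at h
  obtain ⟨h00, h01, h02, h11, h12, h22, -⟩ := h
  fin_cases i <;> fin_cases j <;> first
    | exact comm2_eq_one.1 h00 | exact comm2_eq_one.1 h01 | exact comm2_eq_one.1 h02
    | exact comm2_eq_one.1 h11 | exact comm2_eq_one.1 h12 | exact comm2_eq_one.1 h22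
    | simp at hij

theorem rel_TT : Commute (φ matT) (snd φ ψ matT) :=
  comm2_eq_one.1 (H.rel _ (by simp [glue2, snd_apply]))

theorem scale_gen (i : Fin 3) :
    φ (matD ω) * ψ (s i) * (φ (matD ω))⁻¹ = ψ (dconj ω (s i)) :=
  mul_inv_eq_one.1 (H.rel _ (by fin_cases i <;> simp [glue2]))

theorem w_gen (i : Fin 3) :
    Commute ((ψ matT)⁻¹ * (φ matT * snd φ ψ matT)) (ψ (s i)) :=
  comm2_eq_one.1 (H.rel _ (by fin_cases i <;> simp [glue2, snd_apply]))

theorem scale (l : Fˣ) (g : SL2 F) : φ (matD l) * ψ g * (φ (matD l))⁻¹ = ψ (dconj l g) := by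
  have e : (MulAut.conj (φ (matD ω))).toMonoidHom.comp ψ = ψ.comp (dconj ω) :=
    H.ext_hom fun i => H.scale_gen i
  obtain ⟨k, rfl⟩ := H.hω l
  induction k generalizing g with
  | zero => simp [matD_one, dconj_one]
  | succ k ih =>
    rw [pow_succ, matD_mul, map_mul, dconj_mul, ← ih]
    have := DFunLike.congr_fun e g
    simp only [MonoidHom.comp_apply, MulEquiv.coe_toMonoidHom, MulAut.conj_apply] at this
    rw [← this]; group

theorem w_comm (g : SL2 F) : Commute ((ψ matT)⁻¹ * (φ matT * snd φ ψ matT)) (ψ g) := by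
  have e : (MulAut.conj ((ψ matT)⁻¹ * (φ matT * snd φ ψ matT))).toMonoidHom.comp ψ = ψ :=
    H.ext_hom fun i => by
      simp only [MonoidHom.comp_apply, MulEquiv.coe_toMonoidHom, MulAut.conj_apply]
      rw [(H.w_gen i).eq, mul_inv_cancel_right]
  have := DFunLike.congr_fun e g
  simp only [MonoidHom.comp_apply, MulEquiv.coe_toMonoidHom, MulAut.conj_apply] at this
  exact mul_inv_eq_iff_eq_mul.1 this

/-- Conjugation by the long Weyl element of both factors. -/
theorem w_conj (g : SL2 F) :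
    φ matT * snd φ ψ matT * ψ g * (φ matT * snd φ ψ matT)⁻¹ = ψ (matT * g * matT⁻¹) := by
  rw [map_mul, map_mul, map_inv]
  calc φ matT * snd φ ψ matT * ψ g * (φ matT * snd φ ψ matT)⁻¹
      = ψ matT * ((ψ matT)⁻¹ * (φ matT * snd φ ψ matT) * ψ g) * (φ matT * snd φ ψ matT)⁻¹ := by group
    _ = _ := by rw [(H.w_comm g).eq]; group

theorem sq_central (g : SL2 F) : Commute (ψ matT * ψ matT) (φ g) := by
  have hD : ∀ l, Commute (ψ matT * ψ matT) (φ (matD l)) := fun l => by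
    rw [← map_mul, matT_sq]
    have := H.scale l (matD (-1))
    rw [dconj_matD, mul_inv_eq_iff_eq_mul] at this
    exact this.symm
  have hU1 : Commute (ψ matT * ψ matT) (φ (matU 1)) := comm2_eq_one.1 (H.rel _ (by simp [glue2]))
  have hU2 : ∀ a : F, Commute (ψ matT * ψ matT) (φ (matU (a ^ 2))) := fun a => by
    rcases eq_or_ne a 0 with rfl | ha
    · simp [matU_zero]
    · rw [show a ^ 2 = ((Units.mk0 a ha : Fˣ) : F) ^ 2 * 1 by simp, ← matD_conj, map_mul, map_mul,
        map_inv]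
      exact ((hD _).mul_right hU1).mul_right (hD _).inv_right
  have hU : ∀ x, Commute (ψ matT * ψ matT) (φ (matU x)) := fun x => by
    obtain ⟨a, b, rfl⟩ := H.hsq x
    rw [matU_add, map_mul]
    exact (hU2 a).mul_right (hU2 b)
  have hT : Commute (ψ matT * ψ matT) (φ matT) := by
    have hc : Commute (φ matT) (snd φ ψ matT) := H.rel_TT
    have h1 : ψ matT * (φ matT * snd φ ψ matT) * (ψ matT)⁻¹ = φ matT * snd φ ψ matT := by
      have := H.w_conj matT
      rw [show (matT * matT * matT⁻¹ : SL2 F) = matT by group] at this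
      rw [mul_inv_eq_iff_eq_mul] at this ⊢
      exact this.symm
    have h2 : ψ matT * (φ matT * snd φ ψ matT) * (ψ matT)⁻¹ =
        snd φ ψ matT * (ψ matT * ψ matT * φ matT * (ψ matT * ψ matT)⁻¹) := by
      rw [snd_apply]; group
    rw [h2, hc.eq] at h1
    exact mul_inv_eq_iff_eq_mul.1 (mul_left_cancel h1)
  let K : Subgroup (SL2 F) := (Subgroup.centralizer {ψ matT * ψ matT}).comap φ
  have hK : ∀ x, x ∈ K ↔ Commute (ψ matT * ψ matT) (φ x) := fun x => by
    simp only [K, Subgroup.mem_comap, Subgroup.mem_centralizer_iff, Set.mem_singleton_iff, forall_eq]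
    rfl
  exact (hK g).1 (mem_of_gens (fun x => (hK _).2 (hU x)) (fun l => (hK _).2 (hD l)) ((hK _).2 hT) g)

theorem conj_snd (g : SL2 F) : ψ matT * snd φ ψ g * (ψ matT)⁻¹ = φ g := by
  calc ψ matT * snd φ ψ g * (ψ matT)⁻¹ = ψ matT * ψ matT * φ g * (ψ matT * ψ matT)⁻¹ := by
        rw [snd_apply]; group
    _ = φ g := by rw [(H.sq_central g).eq, mul_inv_cancel_right]

theorem comm_all (g h : SL2 F) : Commute (φ g) (snd φ ψ h) := by
  have hgen : ∀ i j, Commute (φ (s i)) (snd φ ψ (s j)) := fun i j => by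
    rcases le_total i j with h | h
    · exact H.rel_comm i j h
    · have := (H.rel_comm j i h).map (MulAut.conj (ψ matT))
      simp only [MulAut.conj_apply] at this
      rw [H.conj_snd, ← snd_apply] at this
      exact this.symm
  have h1 : ∀ j g, Commute (φ g) (snd φ ψ (s j)) := fun j g => by
    have e : (MulAut.conj (snd φ ψ (s j))).toMonoidHom.comp φ = φ := H.ext_hom fun i => by
      simp only [MonoidHom.comp_apply, MulEquiv.coe_toMonoidHom, MulAut.conj_apply]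
      rw [← (hgen i j).eq, mul_inv_cancel_right]
    have := DFunLike.congr_fun e g
    simp only [MonoidHom.comp_apply, MulEquiv.coe_toMonoidHom, MulAut.conj_apply] at this
    exact (mul_inv_eq_iff_eq_mul.1 this).symm
  have e : (MulAut.conj (φ g)).toMonoidHom.comp (snd φ ψ) = snd φ ψ := H.ext_hom fun j => by
    simp only [MonoidHom.comp_apply, MulEquiv.coe_toMonoidHom, MulAut.conj_apply]
    rw [(h1 j g).eq, mul_inv_cancel_right]
  have := DFunLike.congr_fun e h
  simp only [MonoidHom.comp_apply, MulEquiv.coe_toMonoidHom, MulAut.conj_apply] at this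
  exact mul_inv_eq_iff_eq_mul.1 this

theorem n_conj_U (a : F) : ψ matT * ψ (matU a) * (ψ matT)⁻¹ = ψ (matL (-a)) := by
  rw [← map_inv, ← map_mul, ← map_mul, matT_matU]

theorem n_conj_L (a : F) : ψ matT * ψ (matL a) * (ψ matT)⁻¹ = ψ (matU (-a)) := by
  rw [← map_inv, ← map_mul, ← map_mul, matT_matL]

theorem hE_A (l : Fˣ) (a : F) :
    φ (matD l) * ψ (matU a) * (φ (matD l))⁻¹ = ψ (matU ((l : F) * a)) := by
  rw [H.scale, dconj_matU]

theorem hE_B (l : Fˣ) (a : F) :
    φ (matD l) * ψ (matL a) * (φ (matD l))⁻¹ = ψ (matL (((l⁻¹ : Fˣ) : F) * a)) := by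
  rw [H.scale, dconj_matL]

theorem hE_A' (l : Fˣ) (a : F) :
    snd φ ψ (matD l) * ψ (matL a) * (snd φ ψ (matD l))⁻¹ = ψ (matL ((l : F) * a)) := by
  rw [show ψ (matL a) = ψ matT * ψ (matU (-a)) * (ψ matT)⁻¹ by rw [H.n_conj_U, neg_neg],
    show ψ (matL ((l : F) * a)) = ψ matT * ψ (matU (-((l : F) * a))) * (ψ matT)⁻¹ by
      rw [H.n_conj_U, neg_neg], snd_apply, show -((l : F) * a) = (l : F) * -a by ring, ← H.hE_A]
  group

theorem hE_B' (l : Fˣ) (a : F) :
    snd φ ψ (matD l) * ψ (matU a) * (snd φ ψ (matD l))⁻¹ = ψ (matU (((l⁻¹ : Fˣ) : F) * a)) := by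
  rw [show ψ (matU a) = ψ matT * ψ (matL (-a)) * (ψ matT)⁻¹ by rw [H.n_conj_L, neg_neg],
    show ψ (matU (((l⁻¹ : Fˣ) : F) * a)) = ψ matT * ψ (matL (-(((l⁻¹ : Fˣ) : F) * a))) * (ψ matT)⁻¹ by
      rw [H.n_conj_L, neg_neg], snd_apply,
    show -(((l⁻¹ : Fˣ) : F) * a) = ((l⁻¹ : Fˣ) : F) * -a by ring, ← H.hE_B]
  group

theorem U_comm_U (a t : F) : Commute (ψ (matU a)) (φ (matU t)) := by
  have h1 : Commute (ψ (matU 1)) (φ (matU 1)) := comm2_eq_one.1 (H.rel _ (by simp [glue2]))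
  rcases eq_or_ne a 0 with rfl | ha
  · simp [matU_zero]
  have h2 : ∀ x : F, Commute (ψ (matU a)) (φ (matU (x ^ 2))) := fun x => by
    rcases eq_or_ne x 0 with rfl | hx
    · simp [matU_zero]
    · set l := Units.mk0 x hx
      set k := Units.mk0 (a⁻¹ * x) (mul_ne_zero (inv_ne_zero ha) hx)
      have e1 : ψ (matU a) = snd φ ψ (matD k) * (φ (matD l) * ψ (matU 1) * (φ (matD l))⁻¹) *
          (snd φ ψ (matD k))⁻¹ := by
        rw [H.hE_A, H.hE_B']
        congr 2
        simp [k, l]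
        field_simp
      have e2 : φ (matU (x ^ 2)) = snd φ ψ (matD k) * (φ (matD l) * φ (matU 1) * (φ (matD l))⁻¹) *
          (snd φ ψ (matD k))⁻¹ := by
        rw [← map_inv φ, ← map_mul, ← map_mul, matD_conj, ← (H.comm_all _ _).eq, mul_inv_cancel_right]
        simp [l]
      rw [e1, e2]
      exact ((h1.map (MulAut.conj (φ (matD l)))).map (MulAut.conj (snd φ ψ (matD k))))
  obtain ⟨x, y, rfl⟩ := H.hsq t
  rw [matU_add, map_mul]
  exact (h2 x).mul_right (h2 y)

theorem L_comm_L' (a t : F) : Commute (ψ (matL a)) (φ (matL t)) := by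
  have h := (H.U_comm_U (-a) (-t)).map (MulAut.conj (φ matT * snd φ ψ matT))
  simp only [MulAut.conj_apply] at h
  rw [H.w_conj, matT_matU, neg_neg] at h
  rw [show φ matT * snd φ ψ matT * φ (matU (-t)) * (φ matT * snd φ ψ matT)⁻¹ =
    φ matT * (snd φ ψ matT * φ (matU (-t)) * (snd φ ψ matT)⁻¹) * (φ matT)⁻¹ by group,
    ← (H.comm_all _ _).eq, mul_inv_cancel_right, ← map_inv, ← map_mul, ← map_mul, matT_matU, neg_neg] at h
  exact h

theorem U_comm_L1 (a t : F) : Commute (ψ (matU a)) (snd φ ψ (matL t)) := by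
  have h := (H.L_comm_L' (-a) t).map (MulAut.conj (ψ matT))
  simp only [MulAut.conj_apply] at h
  rwa [H.n_conj_L, neg_neg, ← snd_apply] at h

/-- The mixed commutator. -/
theorem EU_base (a t : F) : ψ (matU a) * snd φ ψ (matU t) * (ψ (matU a))⁻¹ =
    snd φ ψ (matU t) * (snd φ ψ matT * ψ (matU (-(a * t))) * (snd φ ψ matT)⁻¹) * φ (matU (a * a * t)) := by
  set X : F → G := fun t => snd φ ψ matT * ψ (matU (-t)) * (snd φ ψ matT)⁻¹ with hX
  have hXadd : ∀ x y, X (x + y) = X x * X y := fun x y => by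
    simp only [hX]; rw [neg_add, matU_add, map_mul]; group
  have hX1 : ∀ x y, Commute (X x) (snd φ ψ (matU y)) := fun x y => by
    have h := (H.U_comm_L1 (-x) (-y)).map (MulAut.conj (snd φ ψ matT))
    simp only [MulAut.conj_apply] at h
    rw [← map_inv (snd φ ψ), ← map_mul, ← map_mul, matT_matL, neg_neg] at h
    simpa only [hX, map_inv] using h
  have hX0 : ∀ x y, Commute (X x) (φ (matU y)) := fun x y => by
    exact (((H.comm_all (matU y) matT).symm.mul_left (H.U_comm_U (-x) y))).mul_left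
      (H.comm_all (matU y) matT).symm.inv_left
  have h01 : ∀ x y, Commute (φ (matU x)) (snd φ ψ (matU y)) := fun x y => H.comm_all _ _
  rcases eq_or_ne a 0 with rfl | ha
  · simp [matU_zero]
  have key : ∀ t, ψ (matU 1) * snd φ ψ (matU t) * (ψ (matU 1))⁻¹ =
      snd φ ψ (matU t) * X t * φ (matU t) := by
    have hone : ψ (matU 1) * snd φ ψ (matU 1) * (ψ (matU 1))⁻¹ =
        snd φ ψ (matU 1) * X 1 * φ (matU 1) :=
      mul_inv_eq_one.1 (H.rel _ (by simp [glue2, hX, snd_apply]))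
    have hadd : ∀ x y,
        ψ (matU 1) * snd φ ψ (matU x) * (ψ (matU 1))⁻¹ = snd φ ψ (matU x) * X x * φ (matU x) →
        ψ (matU 1) * snd φ ψ (matU y) * (ψ (matU 1))⁻¹ = snd φ ψ (matU y) * X y * φ (matU y) →
        ψ (matU 1) * snd φ ψ (matU (x + y)) * (ψ (matU 1))⁻¹ =
          snd φ ψ (matU (x + y)) * X (x + y) * φ (matU (x + y)) := by
      intro x y hx hy
      rw [matU_add, map_mul, map_mul, hXadd]
      calc ψ (matU 1) * (snd φ ψ (matU x) * snd φ ψ (matU y)) * (ψ (matU 1))⁻¹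
          = (ψ (matU 1) * snd φ ψ (matU x) * (ψ (matU 1))⁻¹) *
            (ψ (matU 1) * snd φ ψ (matU y) * (ψ (matU 1))⁻¹) := by group
        _ = snd φ ψ (matU x) * X x * (φ (matU x) * (snd φ ψ (matU y) * X y)) * φ (matU y) := by
          rw [hx, hy]; group
        _ = snd φ ψ (matU x) * (X x * snd φ ψ (matU y)) * X y * φ (matU x) * φ (matU y) := by
          rw [(((h01 x y).mul_right ((hX0 y x).symm))).eq]; group
        _ = _ := by rw [(hX1 x y).eq]; group
    have hsqc : ∀ x : F, ψ (matU 1) * snd φ ψ (matU (x ^ 2)) * (ψ (matU 1))⁻¹ =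
        snd φ ψ (matU (x ^ 2)) * X (x ^ 2) * φ (matU (x ^ 2)) := by
      intro x
      rcases eq_or_ne x 0 with rfl | hx
      · simp [hX, matU_zero]
      set l := Units.mk0 x hx
      set h := φ (matD l) * snd φ ψ (matD l) with hh
      have c0 : ∀ g, h * φ g * h⁻¹ = φ (matD l * g * (matD l)⁻¹) := fun g => by
        rw [hh, show φ (matD l) * snd φ ψ (matD l) * φ g * (φ (matD l) * snd φ ψ (matD l))⁻¹ =
          φ (matD l) * (snd φ ψ (matD l) * φ g * (snd φ ψ (matD l))⁻¹) * (φ (matD l))⁻¹ by group,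
          ← (H.comm_all g _).eq, mul_inv_cancel_right, ← map_inv, ← map_mul, ← map_mul]
      have c1 : ∀ g, h * snd φ ψ g * h⁻¹ = snd φ ψ (matD l * g * (matD l)⁻¹) := fun g => by
        rw [hh, show φ (matD l) * snd φ ψ (matD l) * snd φ ψ g * (φ (matD l) * snd φ ψ (matD l))⁻¹ =
          φ (matD l) * (snd φ ψ (matD l) * snd φ ψ g * (snd φ ψ (matD l))⁻¹) * (φ (matD l))⁻¹ by group,
          ← map_inv (snd φ ψ), ← map_mul, ← map_mul, (H.comm_all _ _).eq, mul_inv_cancel_right]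
      have cE : ∀ g, h * ψ (matU g) * h⁻¹ = ψ (matU g) := fun g => by
        rw [hh, show φ (matD l) * snd φ ψ (matD l) * ψ (matU g) * (φ (matD l) * snd φ ψ (matD l))⁻¹ =
          φ (matD l) * (snd φ ψ (matD l) * ψ (matU g) * (snd φ ψ (matD l))⁻¹) * (φ (matD l))⁻¹ by group,
          H.hE_B', H.hE_A]
        simp [l, hx]
      have cX : h * X 1 * h⁻¹ = X (x ^ 2) := by
        have e1 : h * X 1 * h⁻¹ = (h * snd φ ψ matT * h⁻¹) * (h * ψ (matU (-1)) * h⁻¹) *
            (h * snd φ ψ matT * h⁻¹)⁻¹ := by simp only [hX]; group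
        rw [e1, c1, cE]
        have e2 : (matD l * matT * (matD l)⁻¹ : SL2 F) = matT * matD (l * l)⁻¹ := by
          rw [matD_inv]
          refine Subtype.ext ?_
          simp only [Matrix.SpecialLinearGroup.coe_mul]
          simp [matD, matT, mul_comm]
        rw [e2, map_mul]
        simp only [hX]
        have e3 := H.hE_B' (l * l)⁻¹ (-1)
        rw [show snd φ ψ matT * snd φ ψ (matD (l * l)⁻¹) * ψ (matU (-1)) *
          (snd φ ψ matT * snd φ ψ (matD (l * l)⁻¹))⁻¹ = snd φ ψ matT * (snd φ ψ (matD (l * l)⁻¹) *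
            ψ (matU (-1)) * (snd φ ψ (matD (l * l)⁻¹))⁻¹) * (snd φ ψ matT)⁻¹ by group, e3]
        congr 4
        simp [l, sq]
      have hc := congrArg (fun z => h * z * h⁻¹) hone
      beta_reduce at hc
      rw [show h * (ψ (matU 1) * snd φ ψ (matU 1) * (ψ (matU 1))⁻¹) * h⁻¹ =
        (h * ψ (matU 1) * h⁻¹) * (h * snd φ ψ (matU 1) * h⁻¹) * (h * ψ (matU 1) * h⁻¹)⁻¹ by group,
        show h * (snd φ ψ (matU 1) * X 1 * φ (matU 1)) * h⁻¹ =
        (h * snd φ ψ (matU 1) * h⁻¹) * (h * X 1 * h⁻¹) * (h * φ (matU 1) * h⁻¹) by group,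
        c0, c1, cE, cX, matD_conj, mul_one] at hc
      simpa [l] using hc
    intro t
    obtain ⟨x, y, rfl⟩ := H.hsq t
    exact hadd _ _ (hsqc x) (hsqc y)
  set l := Units.mk0 a ha
  have hc := congrArg (fun z => φ (matD l) * z * (φ (matD l))⁻¹) (key t)
  beta_reduce at hc
  have d1 : ∀ g, φ (matD l) * snd φ ψ g * (φ (matD l))⁻¹ = snd φ ψ g := fun g => by
    rw [(H.comm_all _ _).eq, mul_inv_cancel_right]
  rw [show φ (matD l) * (ψ (matU 1) * snd φ ψ (matU t) * (ψ (matU 1))⁻¹) * (φ (matD l))⁻¹ =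
    (φ (matD l) * ψ (matU 1) * (φ (matD l))⁻¹) * (φ (matD l) * snd φ ψ (matU t) * (φ (matD l))⁻¹) *
      (φ (matD l) * ψ (matU 1) * (φ (matD l))⁻¹)⁻¹ by group,
    show φ (matD l) * (snd φ ψ (matU t) * X t * φ (matU t)) * (φ (matD l))⁻¹ =
    (φ (matD l) * snd φ ψ (matU t) * (φ (matD l))⁻¹) *
      ((φ (matD l) * snd φ ψ matT * (φ (matD l))⁻¹) * (φ (matD l) * ψ (matU (-t)) * (φ (matD l))⁻¹) *
        (φ (matD l) * snd φ ψ matT * (φ (matD l))⁻¹)⁻¹) *
      (φ (matD l) * φ (matU t) * (φ (matD l))⁻¹) by simp only [hX]; group,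
    d1, d1, H.hE_A, H.hE_A, ← map_inv φ, ← map_mul, ← map_mul, matD_conj] at hc
  simpa [l, sq, map_inv, mul_assoc] using hc

/-- The long root `SL₂`s. -/
def phi (_H : R2 s ω φ ψ) : Fin 2 → SL2 F →* G := ![φ, snd φ ψ]

/-- Steinberg's relations of type `C₂`. -/
def spRel : SpRel 1 F G where
  φ := H.phi
  ψ := ψ
  φcomm := by
    intro i j hij g h
    rcases fin_two_pair hij with ⟨rfl, rfl⟩ | ⟨rfl, rfl⟩
    · exact H.comm_all g h
    · exact (H.comm_all h g).symm
  φE := by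
    intro i j k hij hki hkj
    omega
  hE₁ := by
    intro i j hij l a
    rcases fin_two_pair hij with ⟨rfl, rfl⟩ | ⟨rfl, rfl⟩
    · rw [trv_one_upper, trv_one_upper]; exact H.hE_A l a
    · rw [trv_one_lower, trv_one_lower]; exact H.hE_A' l a
  hE₂ := by
    intro i j hij l a
    rcases fin_two_pair hij with ⟨rfl, rfl⟩ | ⟨rfl, rfl⟩
    · rw [trv_one_upper, trv_one_upper]; exact H.hE_B' l a
    · rw [trv_one_lower, trv_one_lower]; exact H.hE_B l a
  ww := by
    intro i j hij a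
    rcases fin_two_pair hij with ⟨rfl, rfl⟩ | ⟨rfl, rfl⟩
    · rw [trv_one_upper, trv_one_lower, ← matT_matU]; exact H.w_conj _
    · rw [trv_one_lower, trv_one_upper, ← matT_matL]
      show snd φ ψ matT * φ matT * ψ (matL a) * (snd φ ψ matT * φ matT)⁻¹ = _
      rw [← (H.comm_all matT matT).eq]; exact H.w_conj _
  EU := by
    intro i j hij a t
    rcases fin_two_pair hij with ⟨rfl, rfl⟩ | ⟨rfl, rfl⟩
    · rw [trv_one_upper, trv_one_upper]; exact H.EU_base a t
    · rw [trv_one_lower, trv_one_lower]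
      have h := congrArg (fun z => ψ matT * z * (ψ matT)⁻¹) (H.EU_base (-a) t)
      beta_reduce at h
      rw [show ψ matT * (ψ (matU (-a)) * snd φ ψ (matU t) * (ψ (matU (-a)))⁻¹) * (ψ matT)⁻¹ =
        (ψ matT * ψ (matU (-a)) * (ψ matT)⁻¹) * (ψ matT * snd φ ψ (matU t) * (ψ matT)⁻¹) *
          (ψ matT * ψ (matU (-a)) * (ψ matT)⁻¹)⁻¹ by group,
        show ψ matT * (snd φ ψ (matU t) * (snd φ ψ matT * ψ (matU (-(-a * t))) * (snd φ ψ matT)⁻¹) *
          φ (matU (-a * -a * t))) * (ψ matT)⁻¹ = (ψ matT * snd φ ψ (matU t) * (ψ matT)⁻¹) *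
          ((ψ matT * snd φ ψ matT * (ψ matT)⁻¹) * (ψ matT * ψ (matU (-(-a * t))) * (ψ matT)⁻¹) *
            (ψ matT * snd φ ψ matT * (ψ matT)⁻¹)⁻¹) * (ψ matT * φ (matU (-a * -a * t)) * (ψ matT)⁻¹)
          by group,
        H.conj_snd, H.conj_snd, H.n_conj_U, H.n_conj_U] at h
      simpa [phi, snd_apply] using h
  EUi := by
    intro i j hij a t
    rcases fin_two_pair hij with ⟨rfl, rfl⟩ | ⟨rfl, rfl⟩
    · rw [trv_one_upper]; exact H.U_comm_U a t
    · rw [trv_one_lower]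
      have h := (H.U_comm_U (-a) t).map (MulAut.conj (ψ matT))
      simp only [MulAut.conj_apply] at h
      rwa [H.n_conj_U, neg_neg, ← snd_apply] at h
  nφ := by
    intro i j hij g
    rcases fin_two_pair hij with ⟨rfl, rfl⟩ | ⟨rfl, rfl⟩
    · show ψ (ntv 0 1) * φ g * (ψ (ntv 0 1))⁻¹ = _
      rw [ntv_two]; rfl
    · show ψ (ntv 1 0) * snd φ ψ g * (ψ (ntv 1 0))⁻¹ = φ g
      have e : (ntv 1 0 : SL2 F) = matT⁻¹ := by
        rw [eq_inv_iff_mul_eq_one]
        refine Subtype.ext ?_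
        simp only [Matrix.SpecialLinearGroup.coe_mul, ntv, trv_one_upper, trv_one_lower]
        simp [matT, matU, matL, Matrix.one_fin_two]
      rw [e, map_inv, inv_inv, snd_apply]; group

end R2

end Cfsg.Agent.Lib.ShortPresSp
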